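import Cfsg.Agent.H2.E6Dat
import Cfsg.Prelude.Def_LieTwisted

/-!
The module of dimension `27` for `E₆` and `F₄` in characteristic two: commutants, fixed vectors
and the cubic form.
-/

set_option autoImplicit false

namespace Cfsg.Agent.H2.B27

open Cfsg.Lie Matrix

section general

variable (R : Type*) [Field R]

theorem toMat_two_pow (i j : Fin 27) : toMat R (Nat.pow 2 (27 * j + i)) = single i j 1 := by
  ext a b
  change bv R ((2 ^ (27 * j.1 + i.1)).testBit _) = _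
  rw [Nat.testBit_two_pow, single_apply]
  by_cases h : i = a ∧ j = b
  · obtain ⟨rfl, rfl⟩ := h
    simp [bv]
  · rw [if_neg h, decide_eq_false fun e => h ⟨Fin.ext (by omega), Fin.ext (by omega)⟩]
    rfl

/-- Evaluation of an argument. -/
noncomputable def frc' {α : Type} (n : ℕ) (f : ℕ → α) : α :=
  Nat.rec (f 0) (fun k _ => f (Nat.succ k)) n

theorem frc'_eq {α : Type} (n : ℕ) (f : ℕ → α) : frc' n f = f n := by cases n <;> rfl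

/-- Generation of a submodule. -/
noncomputable def gen (I : ℕ → ℕ) (n : ℕ) (s : List (Bool × ℕ × ℕ)) : List ℕ → List ℕ :=
  s.rec id fun e _ f kn => frc' (cond e.1 (cond (Nat.blt e.2.1 n) (mul (I e.2.1) (kn.getD e.2.2 0)) 0)
    (Nat.xor (kn.getD e.2.1 0) (kn.getD e.2.2 0))) fun m => f (m :: kn)

variable {R} [CharP R 2]

theorem gen_spec {I : ℕ → ℕ} {n : ℕ} {a : Matrix (Fin 27) (Fin 27) R} {c : R}
    (h : ∀ k < n, a * toMat R (I k) = toMat R (I k) * a) (s : List (Bool × ℕ × ℕ)) :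
    ∀ kn : List ℕ, (∀ m ∈ kn, a * toMat R m = c • toMat R m) →
      ∀ m ∈ gen I n s kn, a * toMat R m = c • toMat R m := by
  induction s with
  | nil => exact fun _ h => h
  | cons e s ih =>
    intro kn hk
    have h0 : ∀ k, a * toMat R (kn.getD k 0) = c • toMat R (kn.getD k 0) := fun k => by
      rw [List.getD_eq_getElem?_getD]
      cases e : kn[k]? with
      | none => simp [toMat_zero]
      | some m => exact hk m (List.mem_of_getElem? e)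
    change ∀ m ∈ frc' _ (fun m => gen I n s (m :: kn)), _
    rw [frc'_eq]
    refine ih _ (List.forall_mem_cons.mpr ⟨?_, hk⟩)
    cases e.1
    · rw [cond_false, toMat_xor, mul_add, h0, h0, smul_add]
    · cases e' : Nat.blt e.2.1 n
      · simp [toMat_zero]
      · rw [cond_true, cond_true, toMat_mul, ← mul_assoc, h _ (Nat.blt_eq ▸ e'), mul_assoc, h0,
          mul_smul_comm]

theorem scalar_of_gen {I : ℕ → ℕ} {n : ℕ} {a : Matrix (Fin 27) (Fin 27) R} {c : R}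
    (h : ∀ k < n, a * toMat R (I k) = toMat R (I k) * a) {s : List (Bool × ℕ × ℕ)} {kn : List ℕ}
    (hk : ∀ m ∈ kn, a * toMat R m = c • toMat R m)
    (hs : (fa 27 fun j => (gen I n s kn).any (Nat.beq (Nat.pow 2 j))) = true) : a = c • 1 := by
  ext i j
  obtain ⟨m, hm, e⟩ := List.any_eq_true.mp (fa_spec hs j j.2)
  have := gen_spec h s kn hk m hm
  rw [← Nat.eq_of_beq_eq_true e, show Nat.pow 2 j = Nat.pow 2 (27 * (0 : Fin 27) + j) by simp,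
    toMat_two_pow] at this
  simpa [one_apply, single_apply, eq_comm] using congrFun (congrFun this i) 0

theorem eig_of_four {I : ℕ → ℕ} {n : ℕ} {a : Matrix (Fin 27) (Fin 27) R}
    (h : ∀ k < n, a * toMat R (I k) = toMat R (I k) * a) {k1 k2 k3 k4 : ℕ} (h1 : k1 < n)
    (h2 : k2 < n) (h3 : k3 < n) (h4 : k4 < n)
    (e : mul (mul (I k1) (I k2)) (mul (I k3) (I k4)) = 1) :
    a * toMat R 1 = a 0 0 • toMat R 1 := by
  have h5 : Commute a (toMat R 1) := by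
    rw [← e, toMat_mul, toMat_mul, toMat_mul]
    exact (Commute.mul_right (h _ h1) (h _ h2)).mul_right (Commute.mul_right (h _ h3) (h _ h4))
  have h6 : toMat R 1 = single 0 0 1 := toMat_two_pow R 0 0
  rw [h6] at h5 ⊢
  calc _ = a * single 0 0 1 * single 0 0 1 := by rw [mul_assoc, single_mul_single_same, one_mul]
    _ = _ := by rw [h5, single_mul_mul_single]; simp

end general

/-- The vector fixed by `F₄`. -/
def v1 : ℕ := 28672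

/-- The root elements of `F₄`. -/
noncomputable def Y4 (r : ℕ) : ℕ := Nat.xor one (X4 r)

/-- The fundamental roots of `F₄` and their negatives. -/
def S8 : List ℕ := [33, 27, 25, 24, 14, 20, 22, 23]

/-- Conjugation data. -/
def G4 (r : ℕ) : ℕ × ℕ × ℕ × ℕ := List.getD [(24, 23, 1, 7), (25, 22, 2, 6), (27, 20, 4, 5), (33, 14, 7, 7), (25, 22, 5, 4), (24, 23, 6, 3), (33, 14, 17, 2), (27, 20, 8, 6), (25, 22, 9, 5), (24, 23, 10, 4), (27, 20, 12, 3), (24, 23, 12, 3), (25, 22, 13, 2), (27, 20, 14, 1), (0, 0, 0, 0), (25, 22, 16, 3), (24, 23, 17, 2), (27, 20, 22, 1), (24, 23, 19, 2), (25, 22, 20, 1), (0, 0, 0, 0), (24, 23, 22, 1), (0, 0, 0, 0), (0, 0, 0, 0), (0, 0, 0, 0), (0, 0, 0, 0), (24, 23, 25, 1), (0, 0, 0, 0), (25, 22, 27, 1), (24, 23, 28, 2), (27, 20, 25, 1), (24, 23, 30, 2), (25, 22, 31, 3), (0, 0, 0, 0), (27, 20, 33, 1), (25, 22, 34, 2), (24,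 23, 35, 3), (27, 20, 35, 3), (24, 23, 37, 4), (25, 22, 38, 5), (27, 20, 39, 6), (33, 14, 30, 2), (24, 23, 41, 3), (25, 22, 42, 4), (33, 14, 40, 7), (27, 20, 43, 5), (25, 22, 45, 6), (24, 23, 46, 7)] r (0, 0, 0, 0)

theorem sq4 : (fa 48 fun r => Nat.beq (mul (Y4 r) (Y4 r)) one) = true := by decide +kernel

theorem fix4 : (fa 48 fun r => Nat.beq (mul (X4 r) v1) 0) = true := by decide +kernel

theorem gen4 : (fa 48 fun r => decide (r ∈ S8 ∨ ((G4 r).1 ∈ S8 ∧ (G4 r).2.1 ∈ S8 ∧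
    (G4 r).2.2.1 < 48 ∧ (G4 (G4 r).2.2.1).2.2.2 < (G4 r).2.2.2 ∧
    mul (mul (mul (Y4 (G4 r).1) (Y4 (G4 r).2.1)) (Y4 (G4 r).1)) (Y4 (G4 r).2.2.1) =
      mul (Y4 r) (mul (mul (Y4 (G4 r).1) (Y4 (G4 r).2.1)) (Y4 (G4 r).1))))) = true := by
  decide +kernel

theorem four6 : mul (mul (I6 66) (I6 77)) (mul (I6 6) (I6 17)) = 1 := by decide +kernel

theorem four4 : mul (mul (I4 45) (I4 51)) (mul (I4 4) (I4 10)) = 1 := by decide +kernel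

theorem span6 : (fa 27 fun j => (gen I6 78 [(true, 6, 0), (true, 7, 1), (true, 8, 2), (true, 9, 3), (true, 10, 4), (true, 11, 5), (true, 12, 6), (true, 13, 7), (true, 14, 8), (true, 15, 9), (true, 16, 10), (true, 17, 11), (true, 18, 12), (true, 19, 13), (true, 20, 14), (true, 21, 15), (true, 6, 0), (true, 7, 1), (true, 8, 2), (true, 9, 3), (true, 10, 4), (true, 6, 6), (true, 7, 7), (true, 6, 9), (true, 6, 11), (true, 6, 13)] [1]).any (Nat.beq (Nat.pow 2 j))) = true := by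
  decide +kernel

theorem span4 : (fa 27 fun j => (gen I4 52 [(true, 4, 0), (true, 5, 1), (true, 6, 2), (true, 7, 3), (true, 8, 4), (true, 9, 5), (true, 10, 6), (true, 11, 7), (true, 12, 8), (true, 13, 9), (true, 14, 10), (true, 15, 11), (true, 16, 12), (true, 17, 13), (true, 18, 14), (false, 11, 16), (true, 11, 0), (true, 12, 1), (true, 13, 2), (true, 14, 3), (true, 15, 4), (true, 16, 5), (true, 17, 6), (true, 18, 7), (true, 11, 9), (true, 12, 11), (true, 4, 19), (false, 1, 11), (false, 2, 29)] [1, v1]).any (Nat.beq (Nat.pow 2 j))) = true := by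
  decide +kernel

/-- Rows of root elements. -/
def FX (j : ℕ) : List (ℕ × ℕ) := List.getD [[(20, 0)], [(21, 0)], [(23, 0)], [(24, 0)], [(24, 1)], [(25, 0)], [(25, 1)], [(26, 0)], [(25, 2)], [(26, 1)], [(25, 3)], [(26, 2)], [], [(23, 0), (24, 8)], [(21, 0), (25, 7)], [(26, 7)], [(26, 4)], [(26, 8)], [(26, 5)], [(26, 9)], [(26, 6)], [(26, 10)], [(26, 11)], [(26, 12)], [(26, 13)], [(26, 14)], [(25, 33)]] j []

/-- Sums of rows of root elements. -/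
noncomputable def rows (l : List (ℕ × ℕ)) : ℕ :=
  l.rec 0 fun p _ acc => Nat.xor (mul (Nat.pow 2 (27 * p.1)) (X4 p.2)) acc

theorem rows4 : (fa 27 fun j => (FX j).all (fun p => Nat.blt p.2 48) && Nat.beq (rows (FX j))
    (Nat.xor (Nat.pow 2 (27 * j)) (cond (bit v1 j) (Nat.pow 2 (27 * 12)) 0))) = true := by
  decide +kernel

/-- Exponents of the diagonal automorphism. -/
def ex (i : ℕ) : ℕ := List.getD [0, 2, 2, 2, 2, 2, 2, 0, 2, 0, 2, 0, 1, 0, 0, 2, 0, 2, 0, 2, 0, 2, 2, 2, 2, 2, 0] i 0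

/-- The cubic form. -/
def cub {K : Type*} [Field K] (v : Fin 27 → K) : K :=
  v 0 * v 12 * v 26 + v 0 * v 15 * v 25 + v 0 * v 17 * v 24 + v 0 * v 19 * v 23 + v 0 * v 21 * v 22 + v 1 * v 10 * v 26 + v 1 * v 13 * v 25 + v 1 * v 16 * v 24 + v 1 * v 18 * v 23 + v 1 * v 20 * v 22 + v 2 * v 8 * v 26 + v 2 * v 11 * v 25 + v 2 * v 14 * v 24 + v 2 * v 18 * v 21 + v 2 * v 19 * v 20 + v 3 * v 6 * v 26 + v 3 * v 9 * v 25 + v 3 * v 14 * v 23 + v 3 * v 16 * v 21 + v 3 * v 17 * v 20 + v 4 * v 5 * v 26 + v 4 * v 7 * v 25 + v 4 * v 14 * v 22 + v 4 * v 16 * v 19 + v 4 * v 17 * v 18 + v 5 * v 9 * v 24 + v 5 * v 11 * v 23 + v 5 * v 13 * v 21 + v 5 * v 15 * v 20 + v 6 * v 7 * v 24 + v 6 * v 11 * v 22 + v 6 * v 13 * v 19 + v 6 * v 15 * v 18 + v 7 * v 8 * v 23 + v 7 * v 10 * v 21 + v 7 * v 12 * v 20 + v 8 * v 9 * v 22 + v 8 * v 13 * v 17 + v 8 * v 15 * v 16 + v 9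 * v 10 * v 19 + v 9 * v 12 * v 18 + v 10 * v 11 * v 17 + v 10 * v 14 * v 15 + v 11 * v 12 * v 16 + v 12 * v 13 * v 14

/-- The properties of a fundamental root of `E₆`. -/
structure Good (K : Type*) [Field K] (r c : ℕ) : Prop where
  lt : r < 72
  ck : fa 78 (ckE chevE6 I6 r (I6 (r + 6))) = true
  sq : mul (I6 (r + 6)) (I6 (r + 6)) = 0
  dg : ∀ i j : Fin 27, bit (I6 (r + 6)) (27 * j + i) = true → ex i % 3 = (c + ex j) % 3
  cub : ∀ (t : K) (v : Fin 27 → K),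
    cub (v + t • toMat K (I6 (r + 6)) *ᵥ v) = cub v

theorem mulVec_of_table {K : Type*} [Field K] {E : ℕ} (ψ : List (Option (Fin 27)))
    (h : ∀ i j : Fin 27, bit E (27 * j + i) = decide (ψ.getD i none = some j)) (v : Fin 27 → K)
    (i : Fin 27) : (toMat K E *ᵥ v) i = (ψ.getD i none).elim 0 v := by
  simp only [mulVec, dotProduct, toMat_apply, ← bit_eq, h]
  cases ψ.getD i none with
  | none => simp [bv]
  | some k =>
    rw [Finset.sum_eq_single k (fun j _ hj => by simp [bv, hj.symm]) (by simp)]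
    simp [bv]

theorem good56 (K : Type*) [Field K] [CharP K 2] : Good K 56 1 := by
  refine ⟨by norm_num, ck6_56, by decide +kernel, by decide +kernel, fun t v => ?_⟩
  have h := mulVec_of_table (E := I6 (56 + 6)) [some 1, none, none, none, none, none, none, none, none, none, some 12, none, none, some 15, none, none, some 17, none, some 19, none, some 21, none, none, none, none, none, none] (by decide +kernel) v
  simp only [cub, Pi.add_apply, Pi.smul_apply, smul_eq_mul, h]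
  change (v 0 + t * v 1)*(v 12 + t * 0)*(v 26 + t * 0) + (v 0 + t * v 1)*(v 15 + t * 0)*(v 25 + t * 0) + (v 0 + t * v 1)*(v 17 + t * 0)*(v 24 + t * 0) + (v 0 + t * v 1)*(v 19 + t * 0)*(v 23 + t * 0) + (v 0 + t * v 1)*(v 21 + t * 0)*(v 22 + t * 0) + (v 1 + t * 0)*(v 10 + t * v 12)*(v 26 + t * 0) + (v 1 + t * 0)*(v 13 + t * v 15)*(v 25 + t * 0) + (v 1 + t * 0)*(v 16 + t * v 17)*(v 24 + t * 0) + (v 1 + t * 0)*(v 18 + t * v 19)*(v 23 + t * 0) + (v 1 + t * 0)*(v 20 + t * v 21)*(v 22 + t * 0) + (v 2 + t * 0)*(v 8 + t * 0)*(v 26 + t * 0) + (v 2 + t * 0)*(v 11 + t * 0)*(v 25 + t * 0) + (v 2 + t * 0)*(v 14 + t * 0)*(v 24 + t * 0) + (v 2 + t * 0)*(v 18 + t * v 19)*(v 21 + t * 0) + (v 2 + t * 0)*(v 19 + t * 0)*(v 20 + t * v 21) + (v 3 + t * 0)*(v 6 + t * 0)*(v 26 + t * 0) + (v 3 + t * 0)*(v 9 + t * 0)*(v 25 + t * 0) + (v 3 + t * 0)*(v 14 + t * 0)*(v 23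 + t * 0) + (v 3 + t * 0)*(v 16 + t * v 17)*(v 21 + t * 0) + (v 3 + t * 0)*(v 17 + t * 0)*(v 20 + t * v 21) + (v 4 + t * 0)*(v 5 + t * 0)*(v 26 + t * 0) + (v 4 + t * 0)*(v 7 + t * 0)*(v 25 + t * 0) + (v 4 + t * 0)*(v 14 + t * 0)*(v 22 + t * 0) + (v 4 + t * 0)*(v 16 + t * v 17)*(v 19 + t * 0) + (v 4 + t * 0)*(v 17 + t * 0)*(v 18 + t * v 19) + (v 5 + t * 0)*(v 9 + t * 0)*(v 24 + t * 0) + (v 5 + t * 0)*(v 11 + t * 0)*(v 23 + t * 0) + (v 5 + t * 0)*(v 13 + t * v 15)*(v 21 + t * 0) + (v 5 + t * 0)*(v 15 + t * 0)*(v 20 + t * v 21) + (v 6 + t * 0)*(v 7 + t * 0)*(v 24 + t * 0) + (v 6 + t * 0)*(v 11 + t * 0)*(v 22 + t * 0) + (v 6 + t * 0)*(v 13 + t * v 15)*(v 19 + t * 0) + (v 6 + t * 0)*(v 15 + t * 0)*(v 18 + t * v 19) + (v 7 + t * 0)*(v 8 + t * 0)*(v 23 + t * 0) + (v 7 + t * 0)*(v 10 + t * v 12)*(v 21 + t * 0) + (v 7 + t * 0)*(v 12 + t * 0)*(v 20 + t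 * v 21) + (v 8 + t * 0)*(v 9 + t * 0)*(v 22 + t * 0) + (v 8 + t * 0)*(v 13 + t * v 15)*(v 17 + t * 0) + (v 8 + t * 0)*(v 15 + t * 0)*(v 16 + t * v 17) + (v 9 + t * 0)*(v 10 + t * v 12)*(v 19 + t * 0) + (v 9 + t * 0)*(v 12 + t * 0)*(v 18 + t * v 19) + (v 10 + t * v 12)*(v 11 + t * 0)*(v 17 + t * 0) + (v 10 + t * v 12)*(v 14 + t * 0)*(v 15 + t * 0) + (v 11 + t * 0)*(v 12 + t * 0)*(v 16 + t * v 17) + (v 12 + t * 0)*(v 13 + t * v 15)*(v 14 + t * 0) = _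
  linear_combination t * (v 1 * v 12 * v 26 + v 1 * v 15 * v 25 + v 1 * v 17 * v 24 + v 1 * v 19 * v 23 + v 1 * v 21 * v 22 + v 2 * v 19 * v 21 + v 3 * v 17 * v 21 + v 4 * v 17 * v 19 + v 5 * v 15 * v 21 + v 6 * v 15 * v 19 + v 7 * v 12 * v 21 + v 8 * v 15 * v 17 + v 9 * v 12 * v 19 + v 11 * v 12 * v 17 + v 12 * v 14 * v 15) * (CharTwo.two_eq_zero : (2 : K) = 0)

theorem good46 (K : Type*) [Field K] [CharP K 2] : Good K 46 0 := by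
  refine ⟨by norm_num, ck6_46, by decide +kernel, by decide +kernel, fun t v => ?_⟩
  have h := mulVec_of_table (E := I6 (46 + 6)) [none, none, none, some 4, none, some 6, none, some 9, none, none, none, none, none, none, none, none, none, none, some 20, some 21, none, none, some 23, none, none, none, none] (by decide +kernel) v
  simp only [cub, Pi.add_apply, Pi.smul_apply, smul_eq_mul, h]
  change (v 0 + t * 0)*(v 12 + t * 0)*(v 26 + t * 0) + (v 0 + t * 0)*(v 15 + t * 0)*(v 25 + t * 0) + (v 0 + t * 0)*(v 17 + t * 0)*(v 24 + t * 0) + (v 0 + t * 0)*(v 19 + t * v 21)*(v 23 + t * 0) + (v 0 + t * 0)*(v 21 + t * 0)*(v 22 + t * v 23) + (v 1 + t * 0)*(v 10 + t * 0)*(v 26 + t * 0) + (v 1 + t * 0)*(v 13 + t * 0)*(v 25 + t * 0) + (v 1 + t * 0)*(v 16 + t * 0)*(v 24 + t * 0) + (v 1 + t * 0)*(v 18 + t * v 20)*(v 23 + t * 0) + (v 1 + t * 0)*(v 20 + t * 0)*(v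 22 + t * v 23) + (v 2 + t * 0)*(v 8 + t * 0)*(v 26 + t * 0) + (v 2 + t * 0)*(v 11 + t * 0)*(v 25 + t * 0) + (v 2 + t * 0)*(v 14 + t * 0)*(v 24 + t * 0) + (v 2 + t * 0)*(v 18 + t * v 20)*(v 21 + t * 0) + (v 2 + t * 0)*(v 19 + t * v 21)*(v 20 + t * 0) + (v 3 + t * v 4)*(v 6 + t * 0)*(v 26 + t * 0) + (v 3 + t * v 4)*(v 9 + t * 0)*(v 25 + t * 0) + (v 3 + t * v 4)*(v 14 + t * 0)*(v 23 + t * 0) + (v 3 + t * v 4)*(v 16 + t * 0)*(v 21 + t * 0) + (v 3 + t * v 4)*(v 17 + t * 0)*(v 20 + t * 0) + (v 4 + t * 0)*(v 5 + t * v 6)*(v 26 + t * 0) + (v 4 + t * 0)*(v 7 + t * v 9)*(v 25 + t * 0) + (v 4 + t * 0)*(v 14 + t * 0)*(v 22 + t * v 23) + (v 4 + t * 0)*(v 16 + t * 0)*(v 19 + t * v 21) + (v 4 + t * 0)*(v 17 + t * 0)*(v 18 + t * v 20) + (v 5 + t * v 6)*(v 9 + t * 0)*(v 24 + t * 0) + (v 5 + t * v 6)*(v 11 + t * 0)*(v 23 + t * 0) + (v 5 + t * v 6)*(v 13 + t *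 0)*(v 21 + t * 0) + (v 5 + t * v 6)*(v 15 + t * 0)*(v 20 + t * 0) + (v 6 + t * 0)*(v 7 + t * v 9)*(v 24 + t * 0) + (v 6 + t * 0)*(v 11 + t * 0)*(v 22 + t * v 23) + (v 6 + t * 0)*(v 13 + t * 0)*(v 19 + t * v 21) + (v 6 + t * 0)*(v 15 + t * 0)*(v 18 + t * v 20) + (v 7 + t * v 9)*(v 8 + t * 0)*(v 23 + t * 0) + (v 7 + t * v 9)*(v 10 + t * 0)*(v 21 + t * 0) + (v 7 + t * v 9)*(v 12 + t * 0)*(v 20 + t * 0) + (v 8 + t * 0)*(v 9 + t * 0)*(v 22 + t * v 23) + (v 8 + t * 0)*(v 13 + t * 0)*(v 17 + t * 0) + (v 8 + t * 0)*(v 15 + t * 0)*(v 16 + t * 0) + (v 9 + t * 0)*(v 10 + t * 0)*(v 19 + t * v 21) + (v 9 + t * 0)*(v 12 + t * 0)*(v 18 + t * v 20) + (v 10 + t * 0)*(v 11 + t * 0)*(v 17 + t * 0) + (v 10 + t * 0)*(v 14 + t * 0)*(v 15 + t * 0) + (v 11 + t * 0)*(v 12 + t * 0)*(v 16 + t * 0) + (v 12 + t * 0)*(v 13 + t * 0)*(v 14 + t * 0) = _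
  linear_combination t * (v 0 * v 21 * v 23 + v 1 * v 20 * v 23 + v 2 * v 20 * v 21 + v 4 * v 6 * v 26 + v 4 * v 9 * v 25 + v 4 * v 14 * v 23 + v 4 * v 16 * v 21 + v 4 * v 17 * v 20 + v 6 * v 9 * v 24 + v 6 * v 11 * v 23 + v 6 * v 13 * v 21 + v 6 * v 15 * v 20 + v 8 * v 9 * v 23 + v 9 * v 10 * v 21 + v 9 * v 12 * v 20) * (CharTwo.two_eq_zero : (2 : K) = 0)

theorem good42 (K : Type*) [Field K] [CharP K 2] : Good K 42 0 := by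
  refine ⟨by norm_num, ck6_42, by decide +kernel, by decide +kernel, fun t v => ?_⟩
  have h := mulVec_of_table (E := I6 (42 + 6)) [none, some 2, none, none, none, none, none, none, some 10, none, none, some 13, none, none, some 16, none, none, none, none, some 22, none, some 23, none, none, none, none, none] (by decide +kernel) v
  simp only [cub, Pi.add_apply, Pi.smul_apply, smul_eq_mul, h]
  change (v 0 + t * 0)*(v 12 + t * 0)*(v 26 + t * 0) + (v 0 + t * 0)*(v 15 + t * 0)*(v 25 + t * 0) + (v 0 + t * 0)*(v 17 + t * 0)*(v 24 + t * 0) + (v 0 + t * 0)*(v 19 + t * v 22)*(v 23 + t * 0) + (v 0 + t * 0)*(v 21 + t * v 23)*(v 22 + t * 0) + (v 1 + t * v 2)*(v 10 + t * 0)*(v 26 + t * 0) + (v 1 + t * v 2)*(v 13 + t * 0)*(v 25 + t * 0) + (v 1 + t * v 2)*(v 16 + t * 0)*(v 24 + t * 0) + (v 1 + t * v 2)*(v 18 + t * 0)*(v 23 + t * 0) + (v 1 + t * v 2)*(v 20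 + t * 0)*(v 22 + t * 0) + (v 2 + t * 0)*(v 8 + t * v 10)*(v 26 + t * 0) + (v 2 + t * 0)*(v 11 + t * v 13)*(v 25 + t * 0) + (v 2 + t * 0)*(v 14 + t * v 16)*(v 24 + t * 0) + (v 2 + t * 0)*(v 18 + t * 0)*(v 21 + t * v 23) + (v 2 + t * 0)*(v 19 + t * v 22)*(v 20 + t * 0) + (v 3 + t * 0)*(v 6 + t * 0)*(v 26 + t * 0) + (v 3 + t * 0)*(v 9 + t * 0)*(v 25 + t * 0) + (v 3 + t * 0)*(v 14 + t * v 16)*(v 23 + t * 0) + (v 3 + t * 0)*(v 16 + t * 0)*(v 21 + t * v 23) + (v 3 + t * 0)*(v 17 + t * 0)*(v 20 + t * 0) + (v 4 + t * 0)*(v 5 + t * 0)*(v 26 + t * 0) + (v 4 + t * 0)*(v 7 + t * 0)*(v 25 + t * 0) + (v 4 + t * 0)*(v 14 + t * v 16)*(v 22 + t * 0) + (v 4 + t * 0)*(v 16 + t * 0)*(v 19 + t * v 22) + (v 4 + t * 0)*(v 17 + t * 0)*(v 18 + t * 0) + (v 5 + t * 0)*(v 9 + t * 0)*(v 24 + t * 0) + (v 5 + t * 0)*(v 11 + t * v 13)*(v 23 + t * 0) + (v 5 + t * 0)*(v 13 +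 t * 0)*(v 21 + t * v 23) + (v 5 + t * 0)*(v 15 + t * 0)*(v 20 + t * 0) + (v 6 + t * 0)*(v 7 + t * 0)*(v 24 + t * 0) + (v 6 + t * 0)*(v 11 + t * v 13)*(v 22 + t * 0) + (v 6 + t * 0)*(v 13 + t * 0)*(v 19 + t * v 22) + (v 6 + t * 0)*(v 15 + t * 0)*(v 18 + t * 0) + (v 7 + t * 0)*(v 8 + t * v 10)*(v 23 + t * 0) + (v 7 + t * 0)*(v 10 + t * 0)*(v 21 + t * v 23) + (v 7 + t * 0)*(v 12 + t * 0)*(v 20 + t * 0) + (v 8 + t * v 10)*(v 9 + t * 0)*(v 22 + t * 0) + (v 8 + t * v 10)*(v 13 + t * 0)*(v 17 + t * 0) + (v 8 + t * v 10)*(v 15 + t * 0)*(v 16 + t * 0) + (v 9 + t * 0)*(v 10 + t * 0)*(v 19 + t * v 22) + (v 9 + t * 0)*(v 12 + t * 0)*(v 18 + t * 0) + (v 10 + t * 0)*(v 11 + t * v 13)*(v 17 + t * 0) + (v 10 + t * 0)*(v 14 + t * v 16)*(v 15 + t * 0) + (v 11 + t * v 13)*(v 12 + t * 0)*(v 16 + t * 0) + (v 12 + t * 0)*(v 13 + t * 0)*(v 14 + t * v 16) = _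
  linear_combination t * (v 0 * v 22 * v 23 + v 2 * v 10 * v 26 + v 2 * v 13 * v 25 + v 2 * v 16 * v 24 + v 2 * v 18 * v 23 + v 2 * v 20 * v 22 + v 3 * v 16 * v 23 + v 4 * v 16 * v 22 + v 5 * v 13 * v 23 + v 6 * v 13 * v 22 + v 7 * v 10 * v 23 + v 9 * v 10 * v 22 + v 10 * v 13 * v 17 + v 10 * v 15 * v 16 + v 12 * v 13 * v 16) * (CharTwo.two_eq_zero : (2 : K) = 0)

theorem good39 (K : Type*) [Field K] [CharP K 2] : Good K 39 0 := by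
  refine ⟨by norm_num, ck6_39, by decide +kernel, by decide +kernel, fun t v => ?_⟩
  have h := mulVec_of_table (E := I6 (39 + 6)) [none, none, some 3, none, none, none, some 8, none, none, some 11, none, none, none, none, none, none, some 18, some 19, none, none, none, none, none, some 24, none, none, none] (by decide +kernel) v
  simp only [cub, Pi.add_apply, Pi.smul_apply, smul_eq_mul, h]
  change (v 0 + t * 0)*(v 12 + t * 0)*(v 26 + t * 0) + (v 0 + t * 0)*(v 15 + t * 0)*(v 25 + t * 0) + (v 0 + t * 0)*(v 17 + t * v 19)*(v 24 + t * 0) + (v 0 + t * 0)*(v 19 + t * 0)*(v 23 + t * v 24) + (v 0 + t * 0)*(v 21 + t * 0)*(v 22 + t * 0) + (v 1 + t * 0)*(v 10 + t * 0)*(v 26 + t * 0) + (v 1 + t * 0)*(v 13 + t * 0)*(v 25 + t * 0) + (v 1 + t * 0)*(v 16 + t * v 18)*(v 24 + t * 0) + (v 1 + t * 0)*(v 18 + t * 0)*(v 23 + t * v 24) + (v 1 + t * 0)*(v 20 + t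 * 0)*(v 22 + t * 0) + (v 2 + t * v 3)*(v 8 + t * 0)*(v 26 + t * 0) + (v 2 + t * v 3)*(v 11 + t * 0)*(v 25 + t * 0) + (v 2 + t * v 3)*(v 14 + t * 0)*(v 24 + t * 0) + (v 2 + t * v 3)*(v 18 + t * 0)*(v 21 + t * 0) + (v 2 + t * v 3)*(v 19 + t * 0)*(v 20 + t * 0) + (v 3 + t * 0)*(v 6 + t * v 8)*(v 26 + t * 0) + (v 3 + t * 0)*(v 9 + t * v 11)*(v 25 + t * 0) + (v 3 + t * 0)*(v 14 + t * 0)*(v 23 + t * v 24) + (v 3 + t * 0)*(v 16 + t * v 18)*(v 21 + t * 0) + (v 3 + t * 0)*(v 17 + t * v 19)*(v 20 + t * 0) + (v 4 + t * 0)*(v 5 + t * 0)*(v 26 + t * 0) + (v 4 + t * 0)*(v 7 + t * 0)*(v 25 + t * 0) + (v 4 + t * 0)*(v 14 + t * 0)*(v 22 + t * 0) + (v 4 + t * 0)*(v 16 + t * v 18)*(v 19 + t * 0) + (v 4 + t * 0)*(v 17 + t * v 19)*(v 18 + t * 0) + (v 5 + t * 0)*(v 9 + t * v 11)*(v 24 + t * 0) + (v 5 + t * 0)*(v 11 + t * 0)*(v 23 + t * v 24) + (v 5 + t * 0)*(v 13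 + t * 0)*(v 21 + t * 0) + (v 5 + t * 0)*(v 15 + t * 0)*(v 20 + t * 0) + (v 6 + t * v 8)*(v 7 + t * 0)*(v 24 + t * 0) + (v 6 + t * v 8)*(v 11 + t * 0)*(v 22 + t * 0) + (v 6 + t * v 8)*(v 13 + t * 0)*(v 19 + t * 0) + (v 6 + t * v 8)*(v 15 + t * 0)*(v 18 + t * 0) + (v 7 + t * 0)*(v 8 + t * 0)*(v 23 + t * v 24) + (v 7 + t * 0)*(v 10 + t * 0)*(v 21 + t * 0) + (v 7 + t * 0)*(v 12 + t * 0)*(v 20 + t * 0) + (v 8 + t * 0)*(v 9 + t * v 11)*(v 22 + t * 0) + (v 8 + t * 0)*(v 13 + t * 0)*(v 17 + t * v 19) + (v 8 + t * 0)*(v 15 + t * 0)*(v 16 + t * v 18) + (v 9 + t * v 11)*(v 10 + t * 0)*(v 19 + t * 0) + (v 9 + t * v 11)*(v 12 + t * 0)*(v 18 + t * 0) + (v 10 + t * 0)*(v 11 + t * 0)*(v 17 + t * v 19) + (v 10 + t * 0)*(v 14 + t * 0)*(v 15 + t * 0) + (v 11 + t * 0)*(v 12 + t * 0)*(v 16 + t * v 18) + (v 12 + t * 0)*(v 13 + t * 0)*(v 14 + t * 0) = _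
  linear_combination t * (v 0 * v 19 * v 24 + v 1 * v 18 * v 24 + v 3 * v 8 * v 26 + v 3 * v 11 * v 25 + v 3 * v 14 * v 24 + v 3 * v 18 * v 21 + v 3 * v 19 * v 20 + v 4 * v 18 * v 19 + v 5 * v 11 * v 24 + v 7 * v 8 * v 24 + v 8 * v 11 * v 22 + v 8 * v 13 * v 19 + v 8 * v 15 * v 18 + v 10 * v 11 * v 19 + v 11 * v 12 * v 18) * (CharTwo.two_eq_zero : (2 : K) = 0)

theorem good37 (K : Type*) [Field K] [CharP K 2] : Good K 37 0 := by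
  refine ⟨by norm_num, ck6_37, by decide +kernel, by decide +kernel, fun t v => ?_⟩
  have h := mulVec_of_table (E := I6 (37 + 6)) [none, none, none, some 5, some 6, none, none, none, none, none, none, some 14, none, some 16, none, some 17, none, none, none, none, none, none, none, none, some 25, none, none] (by decide +kernel) v
  simp only [cub, Pi.add_apply, Pi.smul_apply, smul_eq_mul, h]
  change (v 0 + t * 0)*(v 12 + t * 0)*(v 26 + t * 0) + (v 0 + t * 0)*(v 15 + t * v 17)*(v 25 + t * 0) + (v 0 + t * 0)*(v 17 + t * 0)*(v 24 + t * v 25) + (v 0 + t * 0)*(v 19 + t * 0)*(v 23 + t * 0) + (v 0 + t * 0)*(v 21 + t * 0)*(v 22 + t * 0) + (v 1 + t * 0)*(v 10 + t * 0)*(v 26 + t * 0) + (v 1 + t * 0)*(v 13 + t * v 16)*(v 25 + t * 0) + (v 1 + t * 0)*(v 16 + t * 0)*(v 24 + t * v 25) + (v 1 + t * 0)*(v 18 + t * 0)*(v 23 + t * 0) + (v 1 + t * 0)*(v 20 + t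 * 0)*(v 22 + t * 0) + (v 2 + t * 0)*(v 8 + t * 0)*(v 26 + t * 0) + (v 2 + t * 0)*(v 11 + t * v 14)*(v 25 + t * 0) + (v 2 + t * 0)*(v 14 + t * 0)*(v 24 + t * v 25) + (v 2 + t * 0)*(v 18 + t * 0)*(v 21 + t * 0) + (v 2 + t * 0)*(v 19 + t * 0)*(v 20 + t * 0) + (v 3 + t * v 5)*(v 6 + t * 0)*(v 26 + t * 0) + (v 3 + t * v 5)*(v 9 + t * 0)*(v 25 + t * 0) + (v 3 + t * v 5)*(v 14 + t * 0)*(v 23 + t * 0) + (v 3 + t * v 5)*(v 16 + t * 0)*(v 21 + t * 0) + (v 3 + t * v 5)*(v 17 + t * 0)*(v 20 + t * 0) + (v 4 + t * v 6)*(v 5 + t * 0)*(v 26 + t * 0) + (v 4 + t * v 6)*(v 7 + t * 0)*(v 25 + t * 0) + (v 4 + t * v 6)*(v 14 + t * 0)*(v 22 + t * 0) + (v 4 + t * v 6)*(v 16 + t * 0)*(v 19 + t * 0) + (v 4 + t * v 6)*(v 17 + t * 0)*(v 18 + t * 0) + (v 5 + t * 0)*(v 9 + t * 0)*(v 24 + t * v 25) + (v 5 + t * 0)*(v 11 + t * v 14)*(v 23 + t * 0) + (v 5 + t * 0)*(v 13 + t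 * v 16)*(v 21 + t * 0) + (v 5 + t * 0)*(v 15 + t * v 17)*(v 20 + t * 0) + (v 6 + t * 0)*(v 7 + t * 0)*(v 24 + t * v 25) + (v 6 + t * 0)*(v 11 + t * v 14)*(v 22 + t * 0) + (v 6 + t * 0)*(v 13 + t * v 16)*(v 19 + t * 0) + (v 6 + t * 0)*(v 15 + t * v 17)*(v 18 + t * 0) + (v 7 + t * 0)*(v 8 + t * 0)*(v 23 + t * 0) + (v 7 + t * 0)*(v 10 + t * 0)*(v 21 + t * 0) + (v 7 + t * 0)*(v 12 + t * 0)*(v 20 + t * 0) + (v 8 + t * 0)*(v 9 + t * 0)*(v 22 + t * 0) + (v 8 + t * 0)*(v 13 + t * v 16)*(v 17 + t * 0) + (v 8 + t * 0)*(v 15 + t * v 17)*(v 16 + t * 0) + (v 9 + t * 0)*(v 10 + t * 0)*(v 19 + t * 0) + (v 9 + t * 0)*(v 12 + t * 0)*(v 18 + t * 0) + (v 10 + t * 0)*(v 11 + t * v 14)*(v 17 + t * 0) + (v 10 + t * 0)*(v 14 + t * 0)*(v 15 + t * v 17) + (v 11 + t * v 14)*(v 12 + t * 0)*(v 16 + t * 0) + (v 12 + t * 0)*(v 13 + t * v 16)*(v 14 + t * 0) = _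
  linear_combination t * (v 0 * v 17 * v 25 + v 1 * v 16 * v 25 + v 2 * v 14 * v 25 + v 5 * v 6 * v 26 + v 5 * v 9 * v 25 + v 5 * v 14 * v 23 + v 5 * v 16 * v 21 + v 5 * v 17 * v 20 + v 6 * v 7 * v 25 + v 6 * v 14 * v 22 + v 6 * v 16 * v 19 + v 6 * v 17 * v 18 + v 8 * v 16 * v 17 + v 10 * v 14 * v 17 + v 12 * v 14 * v 16) * (CharTwo.two_eq_zero : (2 : K) = 0)

theorem good36 (K : Type*) [Field K] [CharP K 2] : Good K 36 2 := by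
  refine ⟨by norm_num, ck6_36, by decide +kernel, by decide +kernel, fun t v => ?_⟩
  have h := mulVec_of_table (E := I6 (36 + 6)) [none, none, none, none, none, some 7, some 9, none, some 11, none, some 13, none, some 15, none, none, none, none, none, none, none, none, none, none, none, none, some 26, none] (by decide +kernel) v
  simp only [cub, Pi.add_apply, Pi.smul_apply, smul_eq_mul, h]
  change (v 0 + t * 0)*(v 12 + t * v 15)*(v 26 + t * 0) + (v 0 + t * 0)*(v 15 + t * 0)*(v 25 + t * v 26) + (v 0 + t * 0)*(v 17 + t * 0)*(v 24 + t * 0) + (v 0 + t * 0)*(v 19 + t * 0)*(v 23 + t * 0) + (v 0 + t * 0)*(v 21 + t * 0)*(v 22 + t * 0) + (v 1 + t * 0)*(v 10 + t * v 13)*(v 26 + t * 0) + (v 1 + t * 0)*(v 13 + t * 0)*(v 25 + t * v 26) + (v 1 + t * 0)*(v 16 + t * 0)*(v 24 + t * 0) + (v 1 + t * 0)*(v 18 + t * 0)*(v 23 + t * 0) + (v 1 + t * 0)*(v 20 + t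 * 0)*(v 22 + t * 0) + (v 2 + t * 0)*(v 8 + t * v 11)*(v 26 + t * 0) + (v 2 + t * 0)*(v 11 + t * 0)*(v 25 + t * v 26) + (v 2 + t * 0)*(v 14 + t * 0)*(v 24 + t * 0) + (v 2 + t * 0)*(v 18 + t * 0)*(v 21 + t * 0) + (v 2 + t * 0)*(v 19 + t * 0)*(v 20 + t * 0) + (v 3 + t * 0)*(v 6 + t * v 9)*(v 26 + t * 0) + (v 3 + t * 0)*(v 9 + t * 0)*(v 25 + t * v 26) + (v 3 + t * 0)*(v 14 + t * 0)*(v 23 + t * 0) + (v 3 + t * 0)*(v 16 + t * 0)*(v 21 + t * 0) + (v 3 + t * 0)*(v 17 + t * 0)*(v 20 + t * 0) + (v 4 + t * 0)*(v 5 + t * v 7)*(v 26 + t * 0) + (v 4 + t * 0)*(v 7 + t * 0)*(v 25 + t * v 26) + (v 4 + t * 0)*(v 14 + t * 0)*(v 22 + t * 0) + (v 4 + t * 0)*(v 16 + t * 0)*(v 19 + t * 0) + (v 4 + t * 0)*(v 17 + t * 0)*(v 18 + t * 0) + (v 5 + t * v 7)*(v 9 + t * 0)*(v 24 + t * 0) + (v 5 + t * v 7)*(v 11 + t * 0)*(v 23 + t * 0) + (v 5 + t * v 7)*(v 13 + t * 0)*(v 21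 + t * 0) + (v 5 + t * v 7)*(v 15 + t * 0)*(v 20 + t * 0) + (v 6 + t * v 9)*(v 7 + t * 0)*(v 24 + t * 0) + (v 6 + t * v 9)*(v 11 + t * 0)*(v 22 + t * 0) + (v 6 + t * v 9)*(v 13 + t * 0)*(v 19 + t * 0) + (v 6 + t * v 9)*(v 15 + t * 0)*(v 18 + t * 0) + (v 7 + t * 0)*(v 8 + t * v 11)*(v 23 + t * 0) + (v 7 + t * 0)*(v 10 + t * v 13)*(v 21 + t * 0) + (v 7 + t * 0)*(v 12 + t * v 15)*(v 20 + t * 0) + (v 8 + t * v 11)*(v 9 + t * 0)*(v 22 + t * 0) + (v 8 + t * v 11)*(v 13 + t * 0)*(v 17 + t * 0) + (v 8 + t * v 11)*(v 15 + t * 0)*(v 16 + t * 0) + (v 9 + t * 0)*(v 10 + t * v 13)*(v 19 + t * 0) + (v 9 + t * 0)*(v 12 + t * v 15)*(v 18 + t * 0) + (v 10 + t * v 13)*(v 11 + t * 0)*(v 17 + t * 0) + (v 10 + t * v 13)*(v 14 + t * 0)*(v 15 + t * 0) + (v 11 + t * 0)*(v 12 + t * v 15)*(v 16 + t * 0) + (v 12 + t * v 15)*(v 13 + t * 0)*(v 14 + t * 0) = _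
  linear_combination t * (v 0 * v 15 * v 26 + v 1 * v 13 * v 26 + v 2 * v 11 * v 26 + v 3 * v 9 * v 26 + v 4 * v 7 * v 26 + v 7 * v 9 * v 24 + v 7 * v 11 * v 23 + v 7 * v 13 * v 21 + v 7 * v 15 * v 20 + v 9 * v 11 * v 22 + v 9 * v 13 * v 19 + v 9 * v 15 * v 18 + v 11 * v 13 * v 17 + v 11 * v 15 * v 16 + v 13 * v 14 * v 15) * (CharTwo.two_eq_zero : (2 : K) = 0)

theorem good15 (K : Type*) [Field K] [CharP K 2] : Good K 15 2 := by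
  refine ⟨by norm_num, ck6_15, by decide +kernel, by decide +kernel, fun t v => ?_⟩
  have h := mulVec_of_table (E := I6 (15 + 6)) [none, some 0, none, none, none, none, none, none, none, none, none, none, some 10, none, none, some 13, none, some 16, none, some 18, none, some 20, none, none, none, none, none] (by decide +kernel) v
  simp only [cub, Pi.add_apply, Pi.smul_apply, smul_eq_mul, h]
  change (v 0 + t * 0)*(v 12 + t * v 10)*(v 26 + t * 0) + (v 0 + t * 0)*(v 15 + t * v 13)*(v 25 + t * 0) + (v 0 + t * 0)*(v 17 + t * v 16)*(v 24 + t * 0) + (v 0 + t * 0)*(v 19 + t * v 18)*(v 23 + t * 0) + (v 0 + t * 0)*(v 21 + t * v 20)*(v 22 + t * 0) + (v 1 + t * v 0)*(v 10 + t * 0)*(v 26 + t * 0) + (v 1 + t * v 0)*(v 13 + t * 0)*(v 25 + t * 0) + (v 1 + t * v 0)*(v 16 + t * 0)*(v 24 + t * 0) + (v 1 + t * v 0)*(v 18 + t * 0)*(v 23 + t * 0) + (v 1 + t * v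 0)*(v 20 + t * 0)*(v 22 + t * 0) + (v 2 + t * 0)*(v 8 + t * 0)*(v 26 + t * 0) + (v 2 + t * 0)*(v 11 + t * 0)*(v 25 + t * 0) + (v 2 + t * 0)*(v 14 + t * 0)*(v 24 + t * 0) + (v 2 + t * 0)*(v 18 + t * 0)*(v 21 + t * v 20) + (v 2 + t * 0)*(v 19 + t * v 18)*(v 20 + t * 0) + (v 3 + t * 0)*(v 6 + t * 0)*(v 26 + t * 0) + (v 3 + t * 0)*(v 9 + t * 0)*(v 25 + t * 0) + (v 3 + t * 0)*(v 14 + t * 0)*(v 23 + t * 0) + (v 3 + t * 0)*(v 16 + t * 0)*(v 21 + t * v 20) + (v 3 + t * 0)*(v 17 + t * v 16)*(v 20 + t * 0) + (v 4 + t * 0)*(v 5 + t * 0)*(v 26 + t * 0) + (v 4 + t * 0)*(v 7 + t * 0)*(v 25 + t * 0) + (v 4 + t * 0)*(v 14 + t * 0)*(v 22 + t * 0) + (v 4 + t * 0)*(v 16 + t * 0)*(v 19 + t * v 18) + (v 4 + t * 0)*(v 17 + t * v 16)*(v 18 + t * 0) + (v 5 + t * 0)*(v 9 + t * 0)*(v 24 + t * 0) + (v 5 + t * 0)*(v 11 + t * 0)*(v 23 + t * 0) + (v 5 + t * 0)*(v 13 + t *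 0)*(v 21 + t * v 20) + (v 5 + t * 0)*(v 15 + t * v 13)*(v 20 + t * 0) + (v 6 + t * 0)*(v 7 + t * 0)*(v 24 + t * 0) + (v 6 + t * 0)*(v 11 + t * 0)*(v 22 + t * 0) + (v 6 + t * 0)*(v 13 + t * 0)*(v 19 + t * v 18) + (v 6 + t * 0)*(v 15 + t * v 13)*(v 18 + t * 0) + (v 7 + t * 0)*(v 8 + t * 0)*(v 23 + t * 0) + (v 7 + t * 0)*(v 10 + t * 0)*(v 21 + t * v 20) + (v 7 + t * 0)*(v 12 + t * v 10)*(v 20 + t * 0) + (v 8 + t * 0)*(v 9 + t * 0)*(v 22 + t * 0) + (v 8 + t * 0)*(v 13 + t * 0)*(v 17 + t * v 16) + (v 8 + t * 0)*(v 15 + t * v 13)*(v 16 + t * 0) + (v 9 + t * 0)*(v 10 + t * 0)*(v 19 + t * v 18) + (v 9 + t * 0)*(v 12 + t * v 10)*(v 18 + t * 0) + (v 10 + t * 0)*(v 11 + t * 0)*(v 17 + t * v 16) + (v 10 + t * 0)*(v 14 + t * 0)*(v 15 + t * v 13) + (v 11 + t * 0)*(v 12 + t * v 10)*(v 16 + t * 0) + (v 12 + t * v 10)*(v 13 + t * 0)*(v 14 + t * 0) = _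
  linear_combination t * (v 0 * v 10 * v 26 + v 0 * v 13 * v 25 + v 0 * v 16 * v 24 + v 0 * v 18 * v 23 + v 0 * v 20 * v 22 + v 2 * v 18 * v 20 + v 3 * v 16 * v 20 + v 4 * v 16 * v 18 + v 5 * v 13 * v 20 + v 6 * v 13 * v 18 + v 7 * v 10 * v 20 + v 8 * v 13 * v 16 + v 9 * v 10 * v 18 + v 10 * v 11 * v 16 + v 10 * v 13 * v 14) * (CharTwo.two_eq_zero : (2 : K) = 0)

theorem good25 (K : Type*) [Field K] [CharP K 2] : Good K 25 0 := by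
  refine ⟨by norm_num, ck6_25, by decide +kernel, by decide +kernel, fun t v => ?_⟩
  have h := mulVec_of_table (E := I6 (25 + 6)) [none, none, none, none, some 3, none, some 5, none, none, some 7, none, none, none, none, none, none, none, none, none, none, some 18, some 19, none, some 22, none, none, none] (by decide +kernel) v
  simp only [cub, Pi.add_apply, Pi.smul_apply, smul_eq_mul, h]
  change (v 0 + t * 0)*(v 12 + t * 0)*(v 26 + t * 0) + (v 0 + t * 0)*(v 15 + t * 0)*(v 25 + t * 0) + (v 0 + t * 0)*(v 17 + t * 0)*(v 24 + t * 0) + (v 0 + t * 0)*(v 19 + t * 0)*(v 23 + t * v 22) + (v 0 + t * 0)*(v 21 + t * v 19)*(v 22 + t * 0) + (v 1 + t * 0)*(v 10 + t * 0)*(v 26 + t * 0) + (v 1 + t * 0)*(v 13 + t * 0)*(v 25 + t * 0) + (v 1 + t * 0)*(v 16 + t * 0)*(v 24 + t * 0) + (v 1 + t * 0)*(v 18 + t * 0)*(v 23 + t * v 22) + (v 1 + t * 0)*(v 20 + t * v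 18)*(v 22 + t * 0) + (v 2 + t * 0)*(v 8 + t * 0)*(v 26 + t * 0) + (v 2 + t * 0)*(v 11 + t * 0)*(v 25 + t * 0) + (v 2 + t * 0)*(v 14 + t * 0)*(v 24 + t * 0) + (v 2 + t * 0)*(v 18 + t * 0)*(v 21 + t * v 19) + (v 2 + t * 0)*(v 19 + t * 0)*(v 20 + t * v 18) + (v 3 + t * 0)*(v 6 + t * v 5)*(v 26 + t * 0) + (v 3 + t * 0)*(v 9 + t * v 7)*(v 25 + t * 0) + (v 3 + t * 0)*(v 14 + t * 0)*(v 23 + t * v 22) + (v 3 + t * 0)*(v 16 + t * 0)*(v 21 + t * v 19) + (v 3 + t * 0)*(v 17 + t * 0)*(v 20 + t * v 18) + (v 4 + t * v 3)*(v 5 + t * 0)*(v 26 + t * 0) + (v 4 + t * v 3)*(v 7 + t * 0)*(v 25 + t * 0) + (v 4 + t * v 3)*(v 14 + t * 0)*(v 22 + t * 0) + (v 4 + t * v 3)*(v 16 + t * 0)*(v 19 + t * 0) + (v 4 + t * v 3)*(v 17 + t * 0)*(v 18 + t * 0) + (v 5 + t * 0)*(v 9 + t * v 7)*(v 24 + t * 0) + (v 5 + t * 0)*(v 11 + t * 0)*(v 23 + t * v 22) + (v 5 + t * 0)*(v 13 + t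 * 0)*(v 21 + t * v 19) + (v 5 + t * 0)*(v 15 + t * 0)*(v 20 + t * v 18) + (v 6 + t * v 5)*(v 7 + t * 0)*(v 24 + t * 0) + (v 6 + t * v 5)*(v 11 + t * 0)*(v 22 + t * 0) + (v 6 + t * v 5)*(v 13 + t * 0)*(v 19 + t * 0) + (v 6 + t * v 5)*(v 15 + t * 0)*(v 18 + t * 0) + (v 7 + t * 0)*(v 8 + t * 0)*(v 23 + t * v 22) + (v 7 + t * 0)*(v 10 + t * 0)*(v 21 + t * v 19) + (v 7 + t * 0)*(v 12 + t * 0)*(v 20 + t * v 18) + (v 8 + t * 0)*(v 9 + t * v 7)*(v 22 + t * 0) + (v 8 + t * 0)*(v 13 + t * 0)*(v 17 + t * 0) + (v 8 + t * 0)*(v 15 + t * 0)*(v 16 + t * 0) + (v 9 + t * v 7)*(v 10 + t * 0)*(v 19 + t * 0) + (v 9 + t * v 7)*(v 12 + t * 0)*(v 18 + t * 0) + (v 10 + t * 0)*(v 11 + t * 0)*(v 17 + t * 0) + (v 10 + t * 0)*(v 14 + t * 0)*(v 15 + t * 0) + (v 11 + t * 0)*(v 12 + t * 0)*(v 16 + t * 0) + (v 12 + t * 0)*(v 13 + t * 0)*(v 14 + t * 0) = _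
  linear_combination t * (v 0 * v 19 * v 22 + v 1 * v 18 * v 22 + v 2 * v 18 * v 19 + v 3 * v 5 * v 26 + v 3 * v 7 * v 25 + v 3 * v 14 * v 22 + v 3 * v 16 * v 19 + v 3 * v 17 * v 18 + v 5 * v 7 * v 24 + v 5 * v 11 * v 22 + v 5 * v 13 * v 19 + v 5 * v 15 * v 18 + v 7 * v 8 * v 22 + v 7 * v 10 * v 19 + v 7 * v 12 * v 18) * (CharTwo.two_eq_zero : (2 : K) = 0)

theorem good29 (K : Type*) [Field K] [CharP K 2] : Good K 29 0 := by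
  refine ⟨by norm_num, ck6_29, by decide +kernel, by decide +kernel, fun t v => ?_⟩
  have h := mulVec_of_table (E := I6 (29 + 6)) [none, none, some 1, none, none, none, none, none, none, none, some 8, none, none, some 11, none, none, some 14, none, none, none, none, none, some 19, some 21, none, none, none] (by decide +kernel) v
  simp only [cub, Pi.add_apply, Pi.smul_apply, smul_eq_mul, h]
  change (v 0 + t * 0)*(v 12 + t * 0)*(v 26 + t * 0) + (v 0 + t * 0)*(v 15 + t * 0)*(v 25 + t * 0) + (v 0 + t * 0)*(v 17 + t * 0)*(v 24 + t * 0) + (v 0 + t * 0)*(v 19 + t * 0)*(v 23 + t * v 21) + (v 0 + t * 0)*(v 21 + t * 0)*(v 22 + t * v 19) + (v 1 + t * 0)*(v 10 + t * v 8)*(v 26 + t * 0) + (v 1 + t * 0)*(v 13 + t * v 11)*(v 25 + t * 0) + (v 1 + t * 0)*(v 16 + t * v 14)*(v 24 + t * 0) + (v 1 + t * 0)*(v 18 + t * 0)*(v 23 + t * v 21) + (v 1 + t * 0)*(v 20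 + t * 0)*(v 22 + t * v 19) + (v 2 + t * v 1)*(v 8 + t * 0)*(v 26 + t * 0) + (v 2 + t * v 1)*(v 11 + t * 0)*(v 25 + t * 0) + (v 2 + t * v 1)*(v 14 + t * 0)*(v 24 + t * 0) + (v 2 + t * v 1)*(v 18 + t * 0)*(v 21 + t * 0) + (v 2 + t * v 1)*(v 19 + t * 0)*(v 20 + t * 0) + (v 3 + t * 0)*(v 6 + t * 0)*(v 26 + t * 0) + (v 3 + t * 0)*(v 9 + t * 0)*(v 25 + t * 0) + (v 3 + t * 0)*(v 14 + t * 0)*(v 23 + t * v 21) + (v 3 + t * 0)*(v 16 + t * v 14)*(v 21 + t * 0) + (v 3 + t * 0)*(v 17 + t * 0)*(v 20 + t * 0) + (v 4 + t * 0)*(v 5 + t * 0)*(v 26 + t * 0) + (v 4 + t * 0)*(v 7 + t * 0)*(v 25 + t * 0) + (v 4 + t * 0)*(v 14 + t * 0)*(v 22 + t * v 19) + (v 4 + t * 0)*(v 16 + t * v 14)*(v 19 + t * 0) + (v 4 + t * 0)*(v 17 + t * 0)*(v 18 + t * 0) + (v 5 + t * 0)*(v 9 + t * 0)*(v 24 + t * 0) + (v 5 + t * 0)*(v 11 + t * 0)*(v 23 + t * v 21) + (v 5 + t * 0)*(v 13 + t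 * v 11)*(v 21 + t * 0) + (v 5 + t * 0)*(v 15 + t * 0)*(v 20 + t * 0) + (v 6 + t * 0)*(v 7 + t * 0)*(v 24 + t * 0) + (v 6 + t * 0)*(v 11 + t * 0)*(v 22 + t * v 19) + (v 6 + t * 0)*(v 13 + t * v 11)*(v 19 + t * 0) + (v 6 + t * 0)*(v 15 + t * 0)*(v 18 + t * 0) + (v 7 + t * 0)*(v 8 + t * 0)*(v 23 + t * v 21) + (v 7 + t * 0)*(v 10 + t * v 8)*(v 21 + t * 0) + (v 7 + t * 0)*(v 12 + t * 0)*(v 20 + t * 0) + (v 8 + t * 0)*(v 9 + t * 0)*(v 22 + t * v 19) + (v 8 + t * 0)*(v 13 + t * v 11)*(v 17 + t * 0) + (v 8 + t * 0)*(v 15 + t * 0)*(v 16 + t * v 14) + (v 9 + t * 0)*(v 10 + t * v 8)*(v 19 + t * 0) + (v 9 + t * 0)*(v 12 + t * 0)*(v 18 + t * 0) + (v 10 + t * v 8)*(v 11 + t * 0)*(v 17 + t * 0) + (v 10 + t * v 8)*(v 14 + t * 0)*(v 15 + t * 0) + (v 11 + t * 0)*(v 12 + t * 0)*(v 16 + t * v 14) + (v 12 + t * 0)*(v 13 + t * v 11)*(v 14 + t * 0) = _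
  linear_combination t * (v 0 * v 19 * v 21 + v 1 * v 8 * v 26 + v 1 * v 11 * v 25 + v 1 * v 14 * v 24 + v 1 * v 18 * v 21 + v 1 * v 19 * v 20 + v 3 * v 14 * v 21 + v 4 * v 14 * v 19 + v 5 * v 11 * v 21 + v 6 * v 11 * v 19 + v 7 * v 8 * v 21 + v 8 * v 9 * v 19 + v 8 * v 11 * v 17 + v 8 * v 14 * v 15 + v 11 * v 12 * v 14) * (CharTwo.two_eq_zero : (2 : K) = 0)

theorem good32 (K : Type*) [Field K] [CharP K 2] : Good K 32 0 := by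
  refine ⟨by norm_num, ck6_32, by decide +kernel, by decide +kernel, fun t v => ?_⟩
  have h := mulVec_of_table (E := I6 (32 + 6)) [none, none, none, some 2, none, none, none, none, some 6, none, none, some 9, none, none, none, none, none, none, some 16, some 17, none, none, none, none, some 23, none, none] (by decide +kernel) v
  simp only [cub, Pi.add_apply, Pi.smul_apply, smul_eq_mul, h]
  change (v 0 + t * 0)*(v 12 + t * 0)*(v 26 + t * 0) + (v 0 + t * 0)*(v 15 + t * 0)*(v 25 + t * 0) + (v 0 + t * 0)*(v 17 + t * 0)*(v 24 + t * v 23) + (v 0 + t * 0)*(v 19 + t * v 17)*(v 23 + t * 0) + (v 0 + t * 0)*(v 21 + t * 0)*(v 22 + t * 0) + (v 1 + t * 0)*(v 10 + t * 0)*(v 26 + t * 0) + (v 1 + t * 0)*(v 13 + t * 0)*(v 25 + t * 0) + (v 1 + t * 0)*(v 16 + t * 0)*(v 24 + t * v 23) + (v 1 + t * 0)*(v 18 + t * v 16)*(v 23 + t * 0) + (v 1 + t * 0)*(v 20 + t *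 0)*(v 22 + t * 0) + (v 2 + t * 0)*(v 8 + t * v 6)*(v 26 + t * 0) + (v 2 + t * 0)*(v 11 + t * v 9)*(v 25 + t * 0) + (v 2 + t * 0)*(v 14 + t * 0)*(v 24 + t * v 23) + (v 2 + t * 0)*(v 18 + t * v 16)*(v 21 + t * 0) + (v 2 + t * 0)*(v 19 + t * v 17)*(v 20 + t * 0) + (v 3 + t * v 2)*(v 6 + t * 0)*(v 26 + t * 0) + (v 3 + t * v 2)*(v 9 + t * 0)*(v 25 + t * 0) + (v 3 + t * v 2)*(v 14 + t * 0)*(v 23 + t * 0) + (v 3 + t * v 2)*(v 16 + t * 0)*(v 21 + t * 0) + (v 3 + t * v 2)*(v 17 + t * 0)*(v 20 + t * 0) + (v 4 + t * 0)*(v 5 + t * 0)*(v 26 + t * 0) + (v 4 + t * 0)*(v 7 + t * 0)*(v 25 + t * 0) + (v 4 + t * 0)*(v 14 + t * 0)*(v 22 + t * 0) + (v 4 + t * 0)*(v 16 + t * 0)*(v 19 + t * v 17) + (v 4 + t * 0)*(v 17 + t * 0)*(v 18 + t * v 16) + (v 5 + t * 0)*(v 9 + t * 0)*(v 24 + t * v 23) + (v 5 + t * 0)*(v 11 + t * v 9)*(v 23 + t * 0) + (v 5 + t * 0)*(v 13 + t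 * 0)*(v 21 + t * 0) + (v 5 + t * 0)*(v 15 + t * 0)*(v 20 + t * 0) + (v 6 + t * 0)*(v 7 + t * 0)*(v 24 + t * v 23) + (v 6 + t * 0)*(v 11 + t * v 9)*(v 22 + t * 0) + (v 6 + t * 0)*(v 13 + t * 0)*(v 19 + t * v 17) + (v 6 + t * 0)*(v 15 + t * 0)*(v 18 + t * v 16) + (v 7 + t * 0)*(v 8 + t * v 6)*(v 23 + t * 0) + (v 7 + t * 0)*(v 10 + t * 0)*(v 21 + t * 0) + (v 7 + t * 0)*(v 12 + t * 0)*(v 20 + t * 0) + (v 8 + t * v 6)*(v 9 + t * 0)*(v 22 + t * 0) + (v 8 + t * v 6)*(v 13 + t * 0)*(v 17 + t * 0) + (v 8 + t * v 6)*(v 15 + t * 0)*(v 16 + t * 0) + (v 9 + t * 0)*(v 10 + t * 0)*(v 19 + t * v 17) + (v 9 + t * 0)*(v 12 + t * 0)*(v 18 + t * v 16) + (v 10 + t * 0)*(v 11 + t * v 9)*(v 17 + t * 0) + (v 10 + t * 0)*(v 14 + t * 0)*(v 15 + t * 0) + (v 11 + t * v 9)*(v 12 + t * 0)*(v 16 + t * 0) + (v 12 + t * 0)*(v 13 + t * 0)*(v 14 + t * 0) = _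
  linear_combination t * (v 0 * v 17 * v 23 + v 1 * v 16 * v 23 + v 2 * v 6 * v 26 + v 2 * v 9 * v 25 + v 2 * v 14 * v 23 + v 2 * v 16 * v 21 + v 2 * v 17 * v 20 + v 4 * v 16 * v 17 + v 5 * v 9 * v 23 + v 6 * v 7 * v 23 + v 6 * v 9 * v 22 + v 6 * v 13 * v 17 + v 6 * v 15 * v 16 + v 9 * v 10 * v 17 + v 9 * v 12 * v 16) * (CharTwo.two_eq_zero : (2 : K) = 0)

theorem good34 (K : Type*) [Field K] [CharP K 2] : Good K 34 0 := by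
  refine ⟨by norm_num, ck6_34, by decide +kernel, by decide +kernel, fun t v => ?_⟩
  have h := mulVec_of_table (E := I6 (34 + 6)) [none, none, none, none, none, some 3, some 4, none, none, none, none, none, none, none, some 11, none, some 13, some 15, none, none, none, none, none, none, none, some 24, none] (by decide +kernel) v
  simp only [cub, Pi.add_apply, Pi.smul_apply, smul_eq_mul, h]
  change (v 0 + t * 0)*(v 12 + t * 0)*(v 26 + t * 0) + (v 0 + t * 0)*(v 15 + t * 0)*(v 25 + t * v 24) + (v 0 + t * 0)*(v 17 + t * v 15)*(v 24 + t * 0) + (v 0 + t * 0)*(v 19 + t * 0)*(v 23 + t * 0) + (v 0 + t * 0)*(v 21 + t * 0)*(v 22 + t * 0) + (v 1 + t * 0)*(v 10 + t * 0)*(v 26 + t * 0) + (v 1 + t * 0)*(v 13 + t * 0)*(v 25 + t * v 24) + (v 1 + t * 0)*(v 16 + t * v 13)*(v 24 + t * 0) + (v 1 + t * 0)*(v 18 + t * 0)*(v 23 + t * 0) + (v 1 + t * 0)*(v 20 + t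 * 0)*(v 22 + t * 0) + (v 2 + t * 0)*(v 8 + t * 0)*(v 26 + t * 0) + (v 2 + t * 0)*(v 11 + t * 0)*(v 25 + t * v 24) + (v 2 + t * 0)*(v 14 + t * v 11)*(v 24 + t * 0) + (v 2 + t * 0)*(v 18 + t * 0)*(v 21 + t * 0) + (v 2 + t * 0)*(v 19 + t * 0)*(v 20 + t * 0) + (v 3 + t * 0)*(v 6 + t * v 4)*(v 26 + t * 0) + (v 3 + t * 0)*(v 9 + t * 0)*(v 25 + t * v 24) + (v 3 + t * 0)*(v 14 + t * v 11)*(v 23 + t * 0) + (v 3 + t * 0)*(v 16 + t * v 13)*(v 21 + t * 0) + (v 3 + t * 0)*(v 17 + t * v 15)*(v 20 + t * 0) + (v 4 + t * 0)*(v 5 + t * v 3)*(v 26 + t * 0) + (v 4 + t * 0)*(v 7 + t * 0)*(v 25 + t * v 24) + (v 4 + t * 0)*(v 14 + t * v 11)*(v 22 + t * 0) + (v 4 + t * 0)*(v 16 + t * v 13)*(v 19 + t * 0) + (v 4 + t * 0)*(v 17 + t * v 15)*(v 18 + t * 0) + (v 5 + t * v 3)*(v 9 + t * 0)*(v 24 + t * 0) + (v 5 + t * v 3)*(v 11 + t * 0)*(v 23 + t * 0) + (v 5 + t * v 3)*(v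 13 + t * 0)*(v 21 + t * 0) + (v 5 + t * v 3)*(v 15 + t * 0)*(v 20 + t * 0) + (v 6 + t * v 4)*(v 7 + t * 0)*(v 24 + t * 0) + (v 6 + t * v 4)*(v 11 + t * 0)*(v 22 + t * 0) + (v 6 + t * v 4)*(v 13 + t * 0)*(v 19 + t * 0) + (v 6 + t * v 4)*(v 15 + t * 0)*(v 18 + t * 0) + (v 7 + t * 0)*(v 8 + t * 0)*(v 23 + t * 0) + (v 7 + t * 0)*(v 10 + t * 0)*(v 21 + t * 0) + (v 7 + t * 0)*(v 12 + t * 0)*(v 20 + t * 0) + (v 8 + t * 0)*(v 9 + t * 0)*(v 22 + t * 0) + (v 8 + t * 0)*(v 13 + t * 0)*(v 17 + t * v 15) + (v 8 + t * 0)*(v 15 + t * 0)*(v 16 + t * v 13) + (v 9 + t * 0)*(v 10 + t * 0)*(v 19 + t * 0) + (v 9 + t * 0)*(v 12 + t * 0)*(v 18 + t * 0) + (v 10 + t * 0)*(v 11 + t * 0)*(v 17 + t * v 15) + (v 10 + t * 0)*(v 14 + t * v 11)*(v 15 + t * 0) + (v 11 + t * 0)*(v 12 + t * 0)*(v 16 + t * v 13) + (v 12 + t * 0)*(v 13 + t * 0)*(v 14 + t * v 11) = _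
  linear_combination t * (v 0 * v 15 * v 24 + v 1 * v 13 * v 24 + v 2 * v 11 * v 24 + v 3 * v 4 * v 26 + v 3 * v 9 * v 24 + v 3 * v 11 * v 23 + v 3 * v 13 * v 21 + v 3 * v 15 * v 20 + v 4 * v 7 * v 24 + v 4 * v 11 * v 22 + v 4 * v 13 * v 19 + v 4 * v 15 * v 18 + v 8 * v 13 * v 15 + v 10 * v 11 * v 15 + v 11 * v 12 * v 13) * (CharTwo.two_eq_zero : (2 : K) = 0)

theorem good35 (K : Type*) [Field K] [CharP K 2] : Good K 35 1 := by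
  refine ⟨by norm_num, ck6_35, by decide +kernel, by decide +kernel, fun t v => ?_⟩
  have h := mulVec_of_table (E := I6 (35 + 6)) [none, none, none, none, none, none, none, some 5, none, some 6, none, some 8, none, some 10, none, some 12, none, none, none, none, none, none, none, none, none, none, some 25] (by decide +kernel) v
  simp only [cub, Pi.add_apply, Pi.smul_apply, smul_eq_mul, h]
  change (v 0 + t * 0)*(v 12 + t * 0)*(v 26 + t * v 25) + (v 0 + t * 0)*(v 15 + t * v 12)*(v 25 + t * 0) + (v 0 + t * 0)*(v 17 + t * 0)*(v 24 + t * 0) + (v 0 + t * 0)*(v 19 + t * 0)*(v 23 + t * 0) + (v 0 + t * 0)*(v 21 + t * 0)*(v 22 + t * 0) + (v 1 + t * 0)*(v 10 + t * 0)*(v 26 + t * v 25) + (v 1 + t * 0)*(v 13 + t * v 10)*(v 25 + t * 0) + (v 1 + t * 0)*(v 16 + t * 0)*(v 24 + t * 0) + (v 1 + t * 0)*(v 18 + t * 0)*(v 23 + t * 0) + (v 1 + t * 0)*(v 20 + t *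 0)*(v 22 + t * 0) + (v 2 + t * 0)*(v 8 + t * 0)*(v 26 + t * v 25) + (v 2 + t * 0)*(v 11 + t * v 8)*(v 25 + t * 0) + (v 2 + t * 0)*(v 14 + t * 0)*(v 24 + t * 0) + (v 2 + t * 0)*(v 18 + t * 0)*(v 21 + t * 0) + (v 2 + t * 0)*(v 19 + t * 0)*(v 20 + t * 0) + (v 3 + t * 0)*(v 6 + t * 0)*(v 26 + t * v 25) + (v 3 + t * 0)*(v 9 + t * v 6)*(v 25 + t * 0) + (v 3 + t * 0)*(v 14 + t * 0)*(v 23 + t * 0) + (v 3 + t * 0)*(v 16 + t * 0)*(v 21 + t * 0) + (v 3 + t * 0)*(v 17 + t * 0)*(v 20 + t * 0) + (v 4 + t * 0)*(v 5 + t * 0)*(v 26 + t * v 25) + (v 4 + t * 0)*(v 7 + t * v 5)*(v 25 + t * 0) + (v 4 + t * 0)*(v 14 + t * 0)*(v 22 + t * 0) + (v 4 + t * 0)*(v 16 + t * 0)*(v 19 + t * 0) + (v 4 + t * 0)*(v 17 + t * 0)*(v 18 + t * 0) + (v 5 + t * 0)*(v 9 + t * v 6)*(v 24 + t * 0) + (v 5 + t * 0)*(v 11 + t * v 8)*(v 23 + t * 0) + (v 5 + t * 0)*(v 13 + t * v 10)*(v 21 +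 t * 0) + (v 5 + t * 0)*(v 15 + t * v 12)*(v 20 + t * 0) + (v 6 + t * 0)*(v 7 + t * v 5)*(v 24 + t * 0) + (v 6 + t * 0)*(v 11 + t * v 8)*(v 22 + t * 0) + (v 6 + t * 0)*(v 13 + t * v 10)*(v 19 + t * 0) + (v 6 + t * 0)*(v 15 + t * v 12)*(v 18 + t * 0) + (v 7 + t * v 5)*(v 8 + t * 0)*(v 23 + t * 0) + (v 7 + t * v 5)*(v 10 + t * 0)*(v 21 + t * 0) + (v 7 + t * v 5)*(v 12 + t * 0)*(v 20 + t * 0) + (v 8 + t * 0)*(v 9 + t * v 6)*(v 22 + t * 0) + (v 8 + t * 0)*(v 13 + t * v 10)*(v 17 + t * 0) + (v 8 + t * 0)*(v 15 + t * v 12)*(v 16 + t * 0) + (v 9 + t * v 6)*(v 10 + t * 0)*(v 19 + t * 0) + (v 9 + t * v 6)*(v 12 + t * 0)*(v 18 + t * 0) + (v 10 + t * 0)*(v 11 + t * v 8)*(v 17 + t * 0) + (v 10 + t * 0)*(v 14 + t * 0)*(v 15 + t * v 12) + (v 11 + t * v 8)*(v 12 + t * 0)*(v 16 + t * 0) + (v 12 + t * 0)*(v 13 + t * v 10)*(v 14 + t * 0) = _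
  linear_combination t * (v 0 * v 12 * v 25 + v 1 * v 10 * v 25 + v 2 * v 8 * v 25 + v 3 * v 6 * v 25 + v 4 * v 5 * v 25 + v 5 * v 6 * v 24 + v 5 * v 8 * v 23 + v 5 * v 10 * v 21 + v 5 * v 12 * v 20 + v 6 * v 8 * v 22 + v 6 * v 10 * v 19 + v 6 * v 12 * v 18 + v 8 * v 10 * v 17 + v 8 * v 12 * v 16 + v 10 * v 12 * v 14) * (CharTwo.two_eq_zero : (2 : K) = 0)

theorem dec33 : Y4 33 = mul (Nat.xor one (I6 (56 + 6))) (Nat.xor one (I6 (36 + 6))) := by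
  decide +kernel
theorem dec27 : Y4 27 = mul (Nat.xor one (I6 (42 + 6))) (Nat.xor one (I6 (37 + 6))) := by
  decide +kernel
theorem dec25 : Y4 25 = Nat.xor one (I6 (39 + 6)) := by decide +kernel
theorem dec24 : Y4 24 = Nat.xor one (I6 (46 + 6)) := by decide +kernel
theorem dec14 : Y4 14 = mul (Nat.xor one (I6 (15 + 6))) (Nat.xor one (I6 (35 + 6))) := by
  decide +kernel
theorem dec20 : Y4 20 = mul (Nat.xor one (I6 (29 + 6))) (Nat.xor one (I6 (34 + 6))) := by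
  decide +kernel
theorem dec22 : Y4 22 = Nat.xor one (I6 (32 + 6)) := by decide +kernel
theorem dec23 : Y4 23 = Nat.xor one (I6 (25 + 6)) := by decide +kernel

end Cfsg.Agent.H2.B27
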