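import Cfsg.Agent.H2.MG
import Cfsg.Agent.H2.E6Fi
import Cfsg.Prelude.Def_Classical

/-!
The group `Ω₇(3)` and its projective representation of degree `27`.
-/

set_option autoImplicit false

namespace Cfsg.Agent.H2.B27

open Matrix CE

/-- Data. -/
def oL : List ℕ := [79778602595634228233767,
  159557201622488833834790,
  159566357601133082915186,
  159533790428164363034150,
  6992912779967134185266,
  159566609863523483781159,
  85918225520750324860530,
  174875862594470941782789,
  202119440859351490968882,
  79778602595634228233767,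
  79778602595634228233767,
  79778602595634228233767,
  79778602595634228233767,
  79778602595634228233767,
  79778602595634228233767,
  79778602595634228233767]

/-- Data. -/
def oJ : ℕ := 2954763066713861984492

/-- Data. -/
noncomputable def o7W : List ℕ := [0x34352138423576535172142357273217425371457232751467232576475, 0x781432136847, 0x64, 0x34, 0x43, 0x6181, 0x1, 0x6, 0x2, 0x5, 0x7, 0x8, 0x3, 0x4]

/-- Data. -/
noncomputable def o7S0x0 : ℕ := 0xb06cf0b050a06055806076b08071408059d0c03c90c062a0d03630d06750d05d70905d70d032309032309035b0d05c40c04f70c043d09075f0807e908040708076309069b0d02e20c06c10c07850c03cc0703cc07069207047a0708530705ad0c087709051c08046e0807ba0805480908340801f60805a30904c50804c50c03840c05e60c03740706c20c052f0c079807079807034907080107042b0707220c082407082407084f0908540707700703110903a70708840907a60704820904860906c409049808010a0807290906a80806a80c06150c031d0c06790704f60903fc0803fc0c01f40d08130c08130907f00906f60c05be0c05c70d00870d00860c05830c036b0c05dd0d05e40905e40605d206066a0703220905540c0490070490070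42c09042a07055f0705ce09064f0704420903e50707f30907f50904fd0802110707570703f40903f20904810804810707a50905990906870c08230707090904a00c04cf09079e08079e0c03290907dd0807dd0c010c0d04b90c04b90904730905610c02f10c02e80d00bd0d00e50c07310c06820c03260d031f09031f06031606033b0705d809077b0908790c06f30c00f30c01a80d046b0c046b0d040909040909042506042509031a0c038d0d002a09002a0d00210600210d00970600970c06a50d043c0c043c07043c0d03bb0903bb0603bb0803c40803920906330c08650805100801400705270707e80907e10907f40807f40703e609071209036c0c049107056c09082f0c06bc0903cf0803cf0c05da0c022a0704d00904c909087d08087d0c070a09041d0c06280c04560a04560a04ee0905170c07450a07450c02e50d031309044a0c04e60c01e60c02420d08610c08610d07b80907b809083e06083e0905e00c060c0d004b09004b0d00390600390d00d40600d40c04bf0d08780c08780708780d06320906320606320806290806130903c00c046a0807470903190c05340d021f0602a80c01c30c010e0d07300c07300d07c50d08060908060608060907280907a20807a20c07b40d00990900990600990d00900800900d02790902790c07460d007d08007d0d08330708330d07d70907d70d05db0905db0805db0c07130807b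b0d06fd0c06fd0c04aa0d01520701520d01280c065d0d02be0d08250908250c07a80d06830c06830c01270706bb0906b90904520804520c056b09083a0c03c50c085b0a085b0a06e509074c0c058a0a058a0c05ca0d05d50d06eb0906c80906fe0806fe0c053c0a053c0c06660d06710a08160d02970d01210c06620d02c30d003c0b068d0a068d0905e10c078f0d01140601810c02780c021c0d05840c05840d040b0d04a50904a50604a50905a70903e00803e00c04040d00c60900c60600c60d00cf0800cf0d01c80901c80c05890d00ee0800ee0d04930704930d03f90903f90d03280903280803280c05980804060d05660c05660c08070d02a10702a10d02290c033c0d015f0d048c09048c0c03e30d036a0c036a0c07b50d01b00601b008013c0d053f0d04e30904e30d04690904690804690905470805470d04ca0c04ca0d01b50701b50702ae0d01070901070d00330900330800330c02a30c02ee0d01110901110801110d02c20c02c20d043e09043e08043e0c04fc0604fc0d031c0c031c0b031c0d02410702410d02430902430d019a09019a0c013f0d00750c00750c03a20b03a20a03a20d04f10904f90905650805650c07930a07930c03330d03610a04ad0d01590d02270c03430d01660d001e0b034b0a034b0804240d05310905310d03250c03250a04110c03910d01b40d006c0a03990d01950801950c013d0d007c0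c007c0b00590a00590700590c04030d026d06026d08020c0d07870d06ed0906ed0d08660908660808660907640807640d06b80c06b80d027407027407018d0d01f00901f00d00420900420800420c017a0c05c10d02220902220802220d01670c01670d08730908730808730c06c50606c50d05e70c05e70b05e70d01a90701a90d01ad0901ad0d023e09023e0c02120d00ea0c00ea0c06510b06510a06510c07840d01060d02cd0802cd0801cb0d01220c01220d07320907320807320c077c0d067a0c067a0b067a0d010d07010d0d02c90902c90901d00d01240d028c09028c08028c0c012c06012c0d004e0c004e0b004e0c069f0b069f0a069f0d00f60900f60800f60d00980c006a0b006a0a006a07006a08083f0d07800907800d05de0c05de0a07c80c06140d02750d00d80a063f0d02370802370c020b0d00ef0c00ef0b00a60a00a60700a60c066b0d01990d00450c00450c06960a06960d01e90d00a10c00a10a00580700580c00630b00630a00630900630c05300d01f10d01740801740802520d02260c02260d057f09057f08057f0c05530d03730c03730b03730d01f30701f30d01720901720902590d022d0d014c09014c08014c0c02070602070d00270c00270b00270c03540b03540a03540d01ec0901ec0801ec0d00d30c00b00b00b00a00b00700b00c03880d02840d028d08028d0c025e0d007e0c007e0b007e0c0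3ab0b03ab0a03ab0d02880902880c025c06025c0d00850c00850b00850c00620b00620a00620700620c00180b00180a00180900180c033a0d023f0d00300c00300c035d0a035d0d00f90d00ca0c00ca0a00a70700a70c00ab0b00ab0a00ab0900ab0d00730c006b0a006b07006b0c000f0a000f09000f06000f0c061d0d01c00d014b08014b0c01e30d00e10c00e10b00e10c06480b06480a06480d01440901440c01df0601df0d00e60c00e60b00e60c00b80b00b80a00b80700b80c000c0b000c0a000c09000c0d008f0b008f0c00610b00610a00610700610c005a0b005a0a005a09005a06005a0d00dd0c00af0a00af0700af0c00150a00150900150600150a00510900510800510d00c10b00c10c00b90b00b90a00b90700b90c00b40b00b40a00b40900b40600b40b00060a00060900060800060a00a20900a20800a20700a20b00030a0003090003080003070003060003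

/-- Data. -/
noncomputable def o7S1x0 : ℕ := 0x3081602081600083201034a05055800053f02072201072102072105034902034900036304017303017304044203044202044200045c04028303028304082403082402082400080704055503055500053c04007403007404009703009702009700007c05080001026800024d02026905063f02063f01034b02034b00033204083303083304027703027702027705043e04046403046404043e03043e02043e0107320404630304630407320307320207320006fd04035c03035c05042404042403042401018204064f03064f0507f40407f40307f401025c04018203018205025c04025c03025c00024104037502037505051a04051a02051a01027804027802027800024204071403071400073004005a03005a0502590402590302590107f10407f10307f100082504045603045604015903015902015905027504053c03053c04027503027502027501051704082f03082f0405170305170205170005310404320304320407270307270207270107280407f00307f004025a03025a02025a05072804018f03018f04072803072802072800070b04027403027404083003083002083005033c04036a03036a04033c03033c02033c01009904051803051804053b03053b02053b05063104007503007504063103063102063101063204036b03036b04009903009902009905063204060c03060c04063203063202063200061504081302081305073004073002073001043d04043d02043d00043c04082503082504081d03081d02081d05036204009003009004036203036202036201036104053103053104081e03081e02081e05015104017403017404015103015102015101015204033303033304036103036102036105015204070b03070b04015203015202015200016d02080101026a02026a05042b02042b00042a04007e03007e04061f03061f02061f01062004061503061504062003062002062005016d04043c03043c04016d03016d02016d000188010188050051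

/-- Data. -/
noncomputable def o7S2x0 : ℕ := 0x307c50207c50007e10004ee0404f60304f60402010302010202010107980404f70304f70407980307980207980007b40403cc0303cc0406c10306c10206c10106c20401290301290406c20306c20206c20006a50403df0303df01013d04013d03013d0001070403e00303e004013c03013c02013c0001210006e50404040304040403f90303f90203f90106ed0404030304030406ed0306ed0206ed0006b804010e03010e0401060301060201060101070406a50306a50401070301070201070001220306e50206e50103f20303f20203f20003f10401220301220403f10303f10203f100040b040009030009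

/-- Data. -/
noncomputable def o7S3x0 : ℕ := 0x206c10106c20206c20006a501013d00010702013c0001210006e50203f90106ed0206ed0006b80201060101070201070001220206e50103f20203f20003f10206e60103f10203f100040b0200f3

/-- Data. -/
noncomputable def o7S4x0 : ℕ := 0x105cf0005b201001b

/-- Data. -/
noncomputable def o7S5x0 : ℕ := 0x3100002d9

theorem o7ch : chain (fun i x => (zm 3 7).app (nth oL x) i) (3 ^ 7) 8 o7W 0 [(3, 727, 6, o7S0x0),
    (81, 242, 5, o7S1x0),
    (9, 79, 3, o7S2x0),
    (243, 26, 2, o7S3x0),
    (27, 3, 1, o7S4x0),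
    (729, 2, 0, o7S5x0)] 14 = true := by
  decide +kernel

theorem o7le : ((List.range 14).all fun k => okW 8 (nth o7W k)) = true := by
  decide +kernel

/-- The form on codes. -/
def oF (i j : ℕ) : ℕ :=
  let s := fun k => Nat.add ((zm 3 7).dgt i k) ((zm 3 7).dgt j k)
  Nat.mod (Nat.add (Nat.mul (s 0) (s 0)) (Nat.add (Nat.add (Nat.mul (s 1) (s 4))
    (Nat.mul (s 2) (s 5))) (Nat.mul (s 3) (s 6)))) 3

theorem o7bd : (zm 3 7).bnd oF [1, 729, 27, 243, 9, 81, 3] = 18341406720 := by decide +kernel

theorem o7A : (zm 3 7).okA oL 0xfedcba9876543210 = true := by decide +kernel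

theorem o7R : (zm 3 7).okR oL fiA = true := by decide +kernel

theorem o7J : ∀ Y ∈ oL, (zm 3 7).mul ((zm 3 7).tp id Y) ((zm 3 7).mul oJ Y) = oJ := by
  decide +kernel

/-- The numbering of the coordinates. -/
def oE : Unit ⊕ (Fin 3 ⊕ Fin 3) ≃ Fin (zm 3 7).d where
  toFun x := (match x with
    | .inl _ => 0 | .inr (.inl i) => ⟨1 + i, by omega⟩ | .inr (.inr i) => ⟨4 + i, by omega⟩ : Fin 7)
  invFun i := ![.inl (), .inr (.inl 0), .inr (.inl 1), .inr (.inl 2), .inr (.inr 0), .inr (.inr 1),
    .inr (.inr 2)] i
  left_inv := by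
    rintro (_ | i | i)
    · rfl
    all_goals fin_cases i <;> rfl
  right_inv (i : Fin 7) := by fin_cases i <;> rfl

theorem o7ok : (zm 3 7).Ok (Nat.cast : ℕ → ZMod 3) :=
  have : Fact (Nat.Prime 3) := ⟨Nat.prime_three⟩
  zm_ok (Nat.card_zmod 3) 7

/-- The Gram matrix. -/
def oG : Unit ⊕ (Fin 3 ⊕ Fin 3) → Unit ⊕ (Fin 3 ⊕ Fin 3) → ZMod 3
  | .inl _, .inl _ => 2
  | .inr (.inl i), .inr (.inr j) => if i = j then 1 else 0
  | .inr (.inr i), .inr (.inl j) => if i = j then 1 else 0
  | _, _ => 0

theorem o7Q (v : Unit ⊕ (Fin 3 ⊕ Fin 3) → ZMod 3) : quadFormOdd 3 (ZMod 3) v =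
    2 * (v ⬝ᵥ (zm 3 7).mat (Nat.cast : ℕ → ZMod 3) oE oJ *ᵥ v) := by
  have h : ∀ i j, (zm 3 7).mat (Nat.cast : ℕ → ZMod 3) oE oJ i j = oG i j :=
    (by decide +kernel : ∀ i j, (((zm 3 7).dgt oJ (7 * oE j + oE i) : ℕ) : ZMod 3) = oG i j)
  simp only [quadFormOdd, dotProduct, mulVec, h, Fintype.sum_sum_type, Fin.sum_univ_three, oG]
  simp
  linear_combination -(v (.inl ()) ^ 2 + v (.inr (.inl 0)) * v (.inr (.inr 0)) +
    v (.inr (.inl 1)) * v (.inr (.inr 1)) + v (.inr (.inl 2)) * v (.inr (.inr 2))) *
    (by decide : (3 : ZMod 3) = 0)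

/-- The isometry group. -/
abbrev G7 := isometryGroup (ZMod 3) (quadFormOdd 3 (ZMod 3))

/-- The generators. -/
noncomputable abbrev g7 := (zm 3 7).gl (Nat.cast : ℕ → ZMod 3) oE oL

theorem g7_mem (x : ℕ) : g7 x ∈ G7 := o7ok.gl_mem oE (H := G7) (fun Y hY g hg u _ => by
  have h := congrArg ((zm 3 7).mat (Nat.cast : ℕ → ZMod 3) oE) (o7J Y hY)
  rw [o7ok.mul, o7ok.mul, o7ok.tp oE (f := id) (σ := id) (fun a ha => ⟨ha, rfl⟩), Matrix.map_id, ← hg] at h
  simp only [o7Q, Units.coeHom_apply]
  conv_rhs => rw [← h, ← mulVec_mulVec, dotProduct_mulVec, vecMul_transpose, ← mulVec_mulVec]) x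

theorem mem_comm {G : Type*} [Group G] {g : ℕ → G} (h0 : g 0 = 1) (sq : ∀ x < 16, g x * g x = 1)
    (rel : ∀ p ∈ fiA, (p.1.map g).prod ^ p.2.1 = 1) : cl g 8 ≤ commutator G := by
  obtain ⟨u, hu⟩ : ∃ u : ℕ → Abelianization G, ∀ x, Abelianization.of (g x) = u x := ⟨_, fun _ => rfl⟩
  have h1 : ∀ p ∈ fiA, (p.1.map u).prod ^ p.2.1 = 1 := fun p hp => by
    have := congrArg Abelianization.of (rel p hp)
    rwa [map_pow, map_list_prod, List.map_map, map_one, show _ ∘ g = u from funext hu] at this
  have h2 : ∀ x < 16, u x ^ 2 = 1 := fun x hx => by rw [← hu, ← map_pow, pow_two, sq x hx, map_one]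
  have h3 : ∀ x < 16, ∀ y < 16, ([x, y], 3, 0) ∈ fiA → u x = u y := fun x hx y hy h => by
    have := h1 _ h
    simp only [List.map_cons, List.map_nil, List.prod_cons, List.prod_nil, mul_one] at this
    rw [pow_succ, mul_pow, h2 x hx, h2 y hy, one_mul, one_mul] at this
    rw [eq_inv_of_mul_eq_one_left this, inv_eq_iff_mul_eq_one, ← pow_two, h2 y hy]
  have a1 := h3 6 (by decide) 5 (by decide) (by decide +kernel)
  have a2 := h3 5 (by decide) 3 (by decide) (by decide +kernel)
  have a3 := h3 3 (by decide) 2 (by decide) (by decide +kernel)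
  have a4 := h3 2 (by decide) 1 (by decide) (by decide +kernel)
  have a5 := h3 1 (by decide) 8 (by decide) (by decide +kernel)
  have a6 := h3 3 (by decide) 4 (by decide) (by decide +kernel)
  have a7 := h3 4 (by decide) 7 (by decide) (by decide +kernel)
  have h4 := h1 ([6, 5, 3, 2, 1, 8, 4], 9, 0) (by decide +kernel)
  simp only [List.map_cons, List.map_nil, List.prod_cons, List.prod_nil, mul_one, ← a7, ← a6, ← a5,
    ← a4, ← a3, ← a2, ← a1, ← pow_two, h2 6 (by decide), pow_succ _ 8, pow_mul _ 2 4, one_pow,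
    one_mul] at h4
  rw [cl, Subgroup.closure_le]
  rintro _ ⟨x, hx, rfl⟩
  rw [SetLike.mem_coe, ← Abelianization.ker_of, MonoidHom.mem_ker, hu]
  have hx' : x ≤ 8 := hx
  interval_cases x
  · rw [← hu, h0, map_one]
  all_goals simp only [← a7, ← a6, ← a5, ← a4, ← a3, ← a2, ← a1, h4]

theorem two_mul_card_le {G : Type*} [Group G] [Finite G] {S H : Subgroup G} (h : S ≤ H) {x : G}
    (h1 : x ∈ H) (h2 : x ∉ S) : 2 * Nat.card S ≤ Nat.card H := by
  have a := (S.subgroupOf H).card_mul_index
  rw [Nat.card_congr (Subgroup.subgroupOfEquivOfLe h).toEquiv] at a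
  rw [← a, mul_comm]
  exact Nat.mul_le_mul_left _ (Subgroup.one_lt_index_of_ne_top fun e =>
    h2 (e.ge (Subgroup.mem_top (⟨x, h1⟩ : H))))

theorem neg_one_notMem {ι : Type*} [Fintype ι] [DecidableEq ι] (h : ∀ g : GL ι (ZMod 3),
    GeneralLinearGroup.det (-g) = -GeneralLinearGroup.det g) :
    (-1 : GL ι (ZMod 3)) ∉ GeneralLinearGroup.det.ker := fun b => by
  rw [MonoidHom.mem_ker, h, map_one] at b
  exact absurd b (by decide)

theorem g7_sq : ∀ x < 16, g7 x * g7 x = 1 := fun x hx => by
  have := o7ok.gl_inv oE o7A x hx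
  rwa [(by decide : ∀ x < 16, dg 0xfedcba9876543210 x = x) x hx, eq_inv_iff_mul_eq_one] at this

theorem card_g7 : 4585351680 ≤ Nat.card (cl g7 8) :=
  (o7ok.tab oE o7A (by norm_num)).le_card (o7ok.vec_inj oE) o7ch o7le

theorem cl_g7 : cl g7 8 = (Omega (ZMod 3) (quadFormOdd 3 (ZMod 3))).map G7.subtype := by
  have h1 : cl g7 8 ≤ (Omega (ZMod 3) (quadFormOdd 3 (ZMod 3))).map G7.subtype :=
    (cl_map G7.subtype (fun x => ⟨g7 x, g7_mem x⟩) 8).ge.trans (Subgroup.map_mono (mem_comm
      (Subtype.ext (o7ok.gl_zero oE o7A)) (fun x hx => Subtype.ext (g7_sq x hx)) fun p hp =>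
        G7.subtype_injective (by
          rw [map_pow, map_list_prod, List.map_map]; exact o7ok.rel oE o7A o7R p hp)))
  refine le_antisymm h1 ?_
  rw [Omega, commutator_def, Subgroup.map_commutator, ← MonoidHom.range_eq_map,
    Subgroup.range_subtype] at h1 ⊢
  have h2 : Nat.card G7 ≤ 18341406720 := o7bd ▸ o7ok.bnd oE (φ := oF)
    (f := fun u v => quadFormOdd 3 (ZMod 3) (u + v)) (fun i j => ⟨Nat.mod_lt _ (by decide), by
      refine (ZMod.natCast_mod _ 3).trans ?_
      simp only [quadFormOdd, Fin.sum_univ_three, Nat.add_eq, Nat.mul_eq, Nat.cast_add, Nat.cast_mul,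
        pow_two]
      rfl⟩) (fun g hg u v => by rw [← mulVec_add]; exact hg _ 0) _ (by decide) (by decide)
  have h3 : (-1 : GL (Unit ⊕ (Fin 3 ⊕ Fin 3)) (ZMod 3)) ∈ G7 := fun u _ => by
    simp [quadFormOdd, neg_mulVec]
  have h4 : ∀ g : GL (Unit ⊕ (Fin 3 ⊕ Fin 3)) (ZMod 3),
      GeneralLinearGroup.det (-g) = -GeneralLinearGroup.det g := fun g => Units.ext (by
    simp [det_neg]; norm_num)
  have h5 : ∀ g ∈ G7, ∃ s ∈ G7 ⊓ GeneralLinearGroup.det.ker, g = s ∨ g = -s := fun g hg => by
    rcases (by decide : ∀ c : (ZMod 3)ˣ, c = 1 ∨ c = -1) (GeneralLinearGroup.det g) with e | e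
    · exact ⟨g, ⟨hg, e⟩, Or.inl rfl⟩
    · exact ⟨-g, ⟨by simpa using mul_mem h3 hg, MonoidHom.mem_ker.mpr (by rw [h4, e, neg_neg])⟩,
        Or.inr (neg_neg g).symm⟩
  have h6 : 2 * Nat.card (G7 ⊓ GeneralLinearGroup.det.ker : Subgroup _) ≤ Nat.card G7 :=
    two_mul_card_le inf_le_left h3 fun b => by
      exact neg_one_notMem h4 (Subgroup.mem_inf.mp b).2
  have h7 : cl g7 8 ≤ G7 ⊓ GeneralLinearGroup.det.ker := h1.trans (Subgroup.commutator_le.mpr
    fun g hg k hk => ⟨G7.mul_mem (G7.mul_mem (G7.mul_mem hg hk) (G7.inv_mem hg)) (G7.inv_mem hk),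
      MonoidHom.mem_ker.mpr (by simp [commutatorElement_def, mul_right_comm])⟩)
  refine Subgroup.commutator_le.mpr fun g hg k hk => ?_
  obtain ⟨s, hs, e1⟩ := h5 g hg
  obtain ⟨t, ht, e2⟩ := h5 k hk
  have := comm_mem_of_card h7 (by have := card_g7; omega) hs ht
  rcases e1 with rfl | rfl <;> rcases e2 with rfl | rfl <;> simpa [commutatorElement_def] using this

theorem iso_O7 {K : Type*} [Field K] [CharP K 2] {w : K} (hw : w ^ 2 = w + 1) [Fintype K]
    (hK : Fintype.card K = 4) : Nonempty ((cl (gl w LY) 8).map (QuotientGroup.mk' (Zc K)) ≃*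
      Omega (ZMod 3) (quadFormOdd 3 (ZMod 3))) := by
  have h1 := bd8 (g := fun x => (QuotientGroup.mk' (Zc K) (gl w LY x), g7 x))
    (Prod.ext (zero_bar hw) (o7ok.gl_zero oE o7A))
    (fun x hx => Prod.ext (sq_bar hw x hx) (g7_sq x hx)) fun p hp => Prod.ext
      (by
        rw [← MonoidHom.coe_fst, map_pow, map_list_prod, List.map_map]
        exact rel_bar hw p (fiA_sub (zero_bar hw) (sq_bar hw) p hp))
      (by
        rw [← MonoidHom.coe_snd, map_pow, map_list_prod, List.map_map]
        exact o7ok.rel oE o7A o7R p hp)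
  have h2 := (facts hw hK).2.2.2
  rw [cl_map] at h2 ⊢
  have h3 := iso_of_card (MonoidHom.fst _ _) h1 (by rw [cl_map]; exact h2.ge)
  have h4 := iso_of_card (MonoidHom.snd _ _) h1 (by rw [cl_map]; exact card_g7)
  rw [cl_map] at h3 h4
  obtain ⟨e1⟩ := h3
  obtain ⟨e2⟩ := h4
  exact ⟨e1.symm.trans (e2.trans ((MulEquiv.subgroupCongr cl_g7).trans
    (Subgroup.equivMapOfInjective _ _ G7.subtype_injective).symm))⟩

end Cfsg.Agent.H2.B27
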