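import Cfsg.Agent.H2.Ln7

/-!
Definitions for the bound on the order of a primitive group (random base argument).
-/

set_option autoImplicit false

namespace Cfsg.Agent.H2.Ps

open Finset

/-- `a` and `b` lie in one orbit of the pointwise stabiliser of `S`. -/
def Sm (G : Type) {X : Type} [Group G] [MulAction G X] (S : Finset X) (a b : X) : Prop :=
  ∃ g : G, (∀ x ∈ S, g • x = x) ∧ g • a = b

open Classical in
/-- The number of `j`-sets whose pointwise stabiliser moves `a` to `b`. -/
noncomputable def uu (G : Type) {X : Type} [Group G] [MulAction G X] [Fintype X] (j : ℕ)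
    (a b : X) : ℕ :=
  ((powersetCard j (univ : Finset X)).filter fun S => Sm G S a b).card

/-- The random base bound. -/
def RB (M : ℕ) (w : ℕ → ℕ) (c : ℕ) : Prop :=
  c * ∏ j ∈ range M, (M - 1).choose j ≤ ∏ j ∈ range M, ((M - 1).choose j + w j)

/-- Feasible parameters of a primitive group that is not doubly transitive. -/
def Feas (N d v : ℕ) : Prop :=
  1 ≤ v ∧ v + 1 ≤ N ∧ N - 1 ≤ v * (d - 1) ∧ (N + 3 ≤ 2 * d ∨ 2 * v + 2 ≤ 3 * d ∨
    (v + 2 ≤ N ∧ v ≤ (N - 1 - v) * (N - 1 - v - 1) ∧
      (N - 1 - v) * (2 * v + 2) + 2 * v ≤ v * d + 2 * d * (N - 1 - v)))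

/-- Number of separating points in the imprimitive case. -/
def ee (k j : ℕ) : ℕ := 2 + max (2 * (k - 1)) (j - (k - 1))

end Cfsg.Agent.H2.Ps
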