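import Cfsg.Agent.H2.Ps0

/-!
The random base bound.
-/

set_option autoImplicit false

namespace Cfsg.Agent.H2.Ps

open Finset MulAction Cfsg.Agent.H2.Ln

theorem dc {X A : Type} [Fintype X] [DecidableEq X] [AddCommMonoid A] (f : Finset X → A) (j : ℕ) :
    ∑ S ∈ powersetCard j (univ : Finset X), ∑ x ∈ Sᶜ, f (insert x S) =
      (j + 1) • ∑ T ∈ powersetCard (j + 1) (univ : Finset X), f T := by
  have e : (j + 1) • ∑ T ∈ powersetCard (j + 1) (univ : Finset X), f T =
      ∑ T ∈ powersetCard (j + 1) (univ : Finset X), ∑ _x ∈ T, f T := by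
    rw [smul_sum]
    exact sum_congr rfl fun T hT => by rw [sum_const, (mem_powersetCard.1 hT).2]
  rw [e, sum_sigma', sum_sigma']
  refine sum_bij' (fun q _ => ⟨insert q.2 q.1, q.2⟩) (fun q _ => ⟨q.1.erase q.2, q.2⟩)
    (fun q hq => ?_) (fun q hq => ?_) (fun q hq => ?_) (fun q hq => ?_) fun _ _ => rfl
  all_goals simp only [mem_sigma, mem_powersetCard, subset_univ, true_and, mem_compl] at hq ⊢
  · exact ⟨by rw [card_insert_of_notMem hq.2, hq.1], mem_insert_self _ _⟩
  · exact ⟨by rw [card_erase_of_mem hq.2, hq.1]; rfl, notMem_erase _ _⟩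
  · rw [erase_insert hq.2]
  · rw [insert_erase hq.2]

variable {G X : Type} [Group G] [MulAction G X] [Fintype X] [DecidableEq X]

open Classical in
theorem card_fix [Finite G] (S : Finset X) (x : X) :
    Nat.card (fixingSubgroup G (S : Set X)) = (univ.filter fun y => Sm G S x y).card *
      Nat.card (fixingSubgroup G ((insert x S : Finset X) : Set X)) := by
  have e : fixingSubgroup G ((insert x S : Finset X) : Set X) =
      fixingSubgroup G (S : Set X) ⊓ stabilizer G x := by
    ext g
    simp [mem_fixingSubgroup_iff, and_comm]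
  have h := Subgroup.relIndex_mul_relIndex ⊥ _ _
    (bot_le (a := fixingSubgroup G (S : Set X) ⊓ stabilizer G x)) inf_le_left
  rw [Subgroup.relIndex_bot_left, Subgroup.relIndex_bot_left, Subgroup.inf_relIndex_left,
    ← H1.Basic.card_orbit_eq_relIndex, Nat.card_coe_set_eq] at h
  rw [e, ← h, mul_comm, ← Set.ncard_coe_finset]
  congr 2
  ext y
  simp only [coe_filter, mem_univ, true_and, Set.mem_ofPred_eq]
  constructor
  · rintro ⟨g, rfl⟩
    exact ⟨g, fun z hz => (mem_fixingSubgroup_iff G).1 g.2 z hz, rfl⟩
  · rintro ⟨g, h1, rfl⟩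
    exact ⟨⟨g, (mem_fixingSubgroup_iff G).2 h1⟩, rfl⟩

open Classical in
theorem sum_orb {w j : ℕ} (h : ∀ a : X, ∑ b ∈ univ.erase a, uu G j a b ≤ w) :
    ∑ S ∈ powersetCard j (univ : Finset X), ∑ x ∈ Sᶜ, (univ.filter fun y => Sm G S x y).card ≤
      (Fintype.card X).choose j * (Fintype.card X - j) + Fintype.card X * w := by
  have h1 : ∀ S ∈ powersetCard j (univ : Finset X),
      ∑ x ∈ Sᶜ, (univ.filter fun y => Sm G S x y).card ≤
        (Fintype.card X - j) + ∑ x, ∑ y ∈ univ.erase x, if Sm G S x y then 1 else 0 := by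
    intro S hS
    calc _ ≤ ∑ x ∈ Sᶜ, (1 + ∑ y ∈ univ.erase x, if Sm G S x y then 1 else 0) := by
          refine sum_le_sum fun x _ => ?_
          rw [← card_filter, add_comm]
          refine (card_le_card fun y hy => ?_).trans (card_insert_le x _)
          by_cases e : y = x
          · exact e ▸ mem_insert_self _ _
          · exact mem_insert_of_mem (by simpa [e] using hy)
      _ ≤ _ := by
          rw [sum_add_distrib, sum_const, card_compl, (mem_powersetCard.1 hS).2, smul_eq_mul,
            mul_one]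
          exact Nat.add_le_add_left (sum_le_sum_of_subset (subset_univ _)) _
  refine (sum_le_sum h1).trans ?_
  rw [sum_add_distrib, sum_const, card_powersetCard, card_univ, smul_eq_mul, sum_comm]
  refine Nat.add_le_add_left ?_ _
  rw [← smul_eq_mul, ← card_univ]
  refine sum_le_card_nsmul _ _ _ fun a _ => le_trans (le_of_eq ?_) (h a)
  rw [sum_comm]
  exact sum_congr rfl fun b _ => by rw [uu, card_filter]

theorem choose_id {n j : ℕ} (hn : 0 < n) : n.choose j * (n - j) = n * (n - 1).choose j := by
  obtain ⟨m, rfl⟩ := Nat.exists_eq_add_of_le' hn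
  rw [← Nat.choose_succ_right_eq, Nat.add_sub_cancel, Nat.add_one_mul_choose_eq]

theorem rb (hμ : MinDeg G X 1) (w : ℕ → ℕ)
    (h : ∀ j (a : X), ∑ b ∈ univ.erase a, uu G j a b ≤ w j) :
    RB (Fintype.card X) w (Nat.card G) := by
  classical
  have := hμ.finite le_rfl
  set n := Fintype.card X with hn
  let l : Finset X → ℝ := fun S => Real.log (Nat.card (fixingSubgroup G (S : Set X)))
  let m : ℕ → ℝ := fun i => 1 + (w i : ℝ) / (n - 1).choose i
  have m0 : ∀ i, 0 < m i := fun i => by positivity
  have key : ∀ i j, j + i = n → ∑ S ∈ powersetCard j (univ : Finset X), l S ≤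
      n.choose j * ∑ i ∈ Ico j n, Real.log (m i) := by
    intro i
    induction i with
    | zero =>
      rintro j rfl
      rw [Ico_self, sum_empty, mul_zero]
      refine sum_nonpos fun S hS => le_of_eq ?_
      have e : fixingSubgroup G (S : Set X) = ⊥ := by
        rw [eq_bot_iff]
        intro g hg
        refine hμ.eq_one ∅ (by simp) fun x _ => (mem_fixingSubgroup_iff G).1 hg x ?_
        rw [(card_eq_iff_eq_univ S).1 (mem_powersetCard.1 hS).2]
        simp
      simp [l, e]
    | succ i ih =>
      intro j hj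
      have ih := ih (j + 1) (by omega)
      have c0 : (0 : ℝ) < (n - 1).choose j := by exact_mod_cast Nat.choose_pos (by omega)
      have c1 : (0 : ℝ) < (n - j : ℕ) := by exact_mod_cast (by omega : 0 < n - j)
      have c2 : (n.choose j : ℝ) * (n - j : ℕ) = n * (n - 1).choose j := by
        exact_mod_cast choose_id (by omega)
      have c3 : (n.choose (j + 1) : ℝ) * (j + 1) = n.choose j * (n - j : ℕ) := by
        exact_mod_cast Nat.choose_succ_right_eq n j
      have a1 := dc l j
      have a2 : ((∑ S ∈ powersetCard j (univ : Finset X), ∑ x ∈ Sᶜ,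
          (univ.filter fun y => Sm G S x y).card : ℕ) : ℝ) ≤
          (n.choose j * (n - j) + n * w j : ℕ) := by exact_mod_cast sum_orb (h j)
      push_cast at a2
      have a3 : ∀ S ∈ powersetCard j (univ : Finset X), ((n - j : ℕ) : ℝ) * l S ≤
          (n - j : ℕ) * (Real.log (m j) - 1) +
            (∑ x ∈ Sᶜ, ((univ.filter fun y => Sm G S x y).card : ℝ)) / m j +
            ∑ x ∈ Sᶜ, l (insert x S) := by
        intro S hS
        have b0 : Sᶜ.card = n - j := by rw [card_compl, (mem_powersetCard.1 hS).2]
        rw [← b0, ← nsmul_eq_mul, ← nsmul_eq_mul, ← sum_const, ← sum_const, sum_div,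
          ← sum_add_distrib, ← sum_add_distrib]
        refine sum_le_sum fun x _ => ?_
        have b1 : (0 : ℝ) < (univ.filter fun y => Sm G S x y).card := by
          exact_mod_cast card_pos.2 ⟨x, by simpa using ⟨1, by simp, by simp⟩⟩
        have b2 := Real.log_le_sub_one_of_pos (div_pos b1 (m0 j))
        rw [Real.log_div b1.ne' (m0 j).ne'] at b2
        have b3 : l S = Real.log (univ.filter fun y => Sm G S x y).card + l (insert x S) := by
          simp only [l]
          rw [card_fix S x, Nat.cast_mul, Real.log_mul b1.ne' (by exact_mod_cast Nat.card_pos.ne')]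
        linarith
      have a4 := sum_le_sum a3
      rw [← mul_sum, sum_add_distrib, sum_add_distrib, a1, sum_const, card_powersetCard,
        card_univ, ← hn, ← sum_div, nsmul_eq_mul, nsmul_eq_mul] at a4
      have a5 : (∑ S ∈ powersetCard j (univ : Finset X), ∑ x ∈ Sᶜ,
          ((univ.filter fun y => Sm G S x y).card : ℝ)) / m j ≤ n.choose j * (n - j : ℕ) := by
        rw [div_le_iff₀ (m0 j)]
        refine a2.trans (le_of_eq ?_)
        rw [c2]
        simp only [m]
        field_simp
      rw [sum_eq_sum_Ico_succ_bot (by omega)]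
      refine le_of_mul_le_mul_left ?_ c1
      have a6 := mul_le_mul_of_nonneg_left ih (show (0 : ℝ) ≤ j + 1 by positivity)
      push_cast at a4
      have a7 : ((j : ℝ) + 1) * (n.choose (j + 1) * ∑ i ∈ Ico (j + 1) n, Real.log (m i)) =
          n.choose j * (n - j : ℕ) * ∑ i ∈ Ico (j + 1) n, Real.log (m i) := by
        rw [← c3]; ring
      nlinarith
  have k0 := key n 0 (by omega)
  rw [powersetCard_zero, sum_singleton, Nat.choose_zero_right, Nat.cast_one, one_mul,
    ← range_eq_Ico, ← Real.log_prod fun i _ => (m0 i).ne'] at k0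
  have k1 : fixingSubgroup G ((∅ : Finset X) : Set X) = ⊤ := by
    ext g; simp [mem_fixingSubgroup_iff]
  simp only [l] at k0
  rw [k1, Subgroup.card_top, Real.log_le_log_iff (by exact_mod_cast Nat.card_pos)
    (prod_pos fun i _ => m0 i)] at k0
  have k2 : ((∏ j ∈ range n, ((n - 1).choose j + w j) : ℕ) : ℝ) =
      (∏ i ∈ range n, m i) * (∏ j ∈ range n, (n - 1).choose j : ℕ) := by
    push_cast
    rw [← prod_mul_distrib]
    refine prod_congr rfl fun i hi => ?_
    have c0 : (0 : ℝ) < (n - 1).choose i := by
      exact_mod_cast Nat.choose_pos (by have := mem_range.1 hi; omega)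
    simp only [m]
    field_simp
  rw [RB, ← Nat.cast_le (α := ℝ), k2, Nat.cast_mul]
  exact mul_le_mul_of_nonneg_right k0 (by positivity)

end Cfsg.Agent.H2.Ps
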