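import Cfsg.Agent.H2.Ps0

/-!
Few pairs of a primitive group have a small distinguishing set.
-/

set_option autoImplicit false

namespace Cfsg.Agent.H2.Ps

open Finset Cfsg.Agent.H2.Ln

variable {G X : Type} [Group G] [MulAction G X] [Fintype X]

open Classical in
theorem sep {E : X → X → Prop} (hE : ∀ (g : G) x y, E x y → E (g • x) (g • y))
    (hs : ∀ x y, E x y → E y x) (hi : ∀ x, ¬ E x x) {a c : X} (hac : a ≠ c) :
    ((nb E c \ nb E a).erase a).card + ((nb E a \ nb E c).erase c).card + 2 ≤ (Ds G a c).card := by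
  rw [← card_union_of_disjoint, add_assoc _ 1 1 |>.symm, ← card_insert_of_notMem (a := c),
    ← card_insert_of_notMem (a := a)]
  · refine card_le_card fun ω hω => mem_Ds.2 fun h => ?_
    simp only [mem_insert, mem_union, mem_erase, mem_sdiff, mem_nb] at hω
    rcases hω with rfl | rfl | hω | hω
    · exact hac h.eq_left
    · exact hac h.symm.eq_left.symm
    · exact hω.2.2 (hs _ _ (h.symm.rel hE (hs _ _ hω.2.1)))
    · exact hω.2.2 (hs _ _ (h.rel hE (hs _ _ hω.2.1)))
  · simp [hac, hi a]
  · simp [hi c]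
  · rw [disjoint_left]
    intro ω h1 h2
    simp only [mem_erase, mem_sdiff] at h1 h2
    exact h1.2.2 h2.2.1

open Classical in
theorem struct [MulAction.IsPreprimitive G X] (hn2 : ¬ MulAction.IsMultiplyPretransitive G X 2)
    {a0 b0 : X} (hab : a0 ≠ b0) : ∃ v, Feas (Fintype.card X) (Ds G a0 b0).card v ∧
      ∀ a : X, ((univ.erase a).filter fun c => (Ds G a c).card ≤ v + 1).card + 2 ≤
        v + (Ds G a0 b0).card := by
  set d := (Ds G a0 b0).card with hd
  let Γ : X → X → Prop := fun u w => ∃ g : G, g • a0 = u ∧ g • b0 = w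
  let E : X → X → Prop := fun u w => Γ u w ∨ Γ w u
  have hΓ : ∀ (g : G) x y, Γ x y → Γ (g • x) (g • y) := fun g x y ⟨k, h1, h2⟩ =>
    ⟨g * k, by rw [mul_smul, h1], by rw [mul_smul, h2]⟩
  have hΓi : ∀ x, ¬ Γ x x := fun x ⟨k, h1, h2⟩ => hab (MulAction.injective k (h1.trans h2.symm))
  have hE : ∀ (g : G) x y, E x y → E (g • x) (g • y) := fun g x y h => h.imp (hΓ g _ _) (hΓ g _ _)
  have hEs : ∀ x y, E x y → E y x := fun x y h => h.symm
  have hEi : ∀ x, ¬ E x x := fun x h => h.elim (hΓi x) (hΓi x)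
  have hE0 : E a0 b0 := Or.inl ⟨1, one_smul _ _, one_smul _ _⟩
  have hEd : ∀ x y, E x y → (Ds G x y).card = d := by
    rintro x y (⟨g, rfl, rfl⟩ | ⟨g, rfl, rfl⟩)
    · exact Ds_smul _ _ _
    · rw [Ds_comm]; exact Ds_smul _ _ _
  have hcon := H1.Basic.connected_of_invariant (G := G) E hE hab hE0
  obtain ⟨v, hv⟩ : ∃ v, ∀ x, (nb E x).card = v := ⟨_, fun x => deg_eq hE x a0⟩
  have hv1 : 1 ≤ v := by rw [← hv a0]; exact card_pos.2 ⟨b0, by simpa using hE0⟩
  let F : X → X → Prop := fun x y => x ≠ y ∧ ¬ E x y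
  have hF : ∀ (g : G) x y, F x y → F (g • x) (g • y) := fun g x y h =>
    ⟨fun e => h.1 (MulAction.injective g e), fun e => h.2 (by simpa using hE g⁻¹ _ _ e)⟩
  have hFs : ∀ x y, F x y → F y x := fun x y h => ⟨h.1.symm, fun e => h.2 (hEs _ _ e)⟩
  obtain ⟨v', hv'⟩ : ∃ v, ∀ x, (nb F x).card = v := ⟨_, fun x => deg_eq hF x a0⟩
  have e1 : v + v' + 1 = Fintype.card X := by
    rw [← hv a0, ← hv' a0, ← card_union_of_disjoint, ← card_insert_of_notMem (a := a0),
      ← card_univ]
    · congr 1
      ext x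
      simp only [mem_insert, mem_union, mem_nb, mem_univ, iff_true, F]
      tauto
    · simpa [F] using hEi a0
    · rw [disjoint_left]
      intro x h1 h2
      exact (by simpa using h2 : F a0 x).2 (by simpa using h1)
  have sd : ∀ a c, (nb E c \ nb E a).card + (nb E a ∩ nb E c).card = v := fun a c => by
    rw [inter_comm, card_sdiff_add_card_inter, hv]
  have s1 : ∀ a, 2 * ∑ c ∈ nb F a, (nb E a ∩ nb E c).card + 2 * v ≤ v * d := by
    intro a
    have q1 : ∑ c ∈ nb F a, (nb E a ∩ nb E c).card =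
        ∑ b ∈ nb E a, ((nb E b \ nb E a).erase a).card := by
      have r1 : ∀ c, (nb E a ∩ nb E c).card = ∑ b ∈ nb E a, if E b c then 1 else 0 := fun c => by
        rw [← card_filter]
        congr 1
        ext b
        simp only [mem_inter, mem_nb, mem_filter]
        exact and_congr_right fun _ => ⟨hEs _ _, hEs _ _⟩
      simp only [r1]
      rw [sum_comm]
      refine sum_congr rfl fun b _ => ?_
      rw [← card_filter]
      congr 1
      ext c
      simp only [mem_filter, mem_nb, mem_erase, mem_sdiff, F]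
      exact ⟨fun h => ⟨h.1.1.symm, h.2, h.1.2⟩, fun h => ⟨⟨h.1.symm, h.2.2⟩, h.2.1⟩⟩
    rw [q1, mul_sum, show 2 * v = ∑ _b ∈ nb E a, 2 by rw [sum_const, hv, smul_eq_mul, mul_comm],
      ← sum_add_distrib, ← hv a, ← smul_eq_mul]
    refine sum_le_card_nsmul _ _ _ fun b hb => ?_
    have hb' : E a b := mem_nb.1 hb
    have r1 := sep (G := G) hE hEs hEi (a := a) (c := b) fun e => hEi a (e ▸ hb')
    have r2 := card_erase_add_one (s := nb E b \ nb E a) (a := a) (by simp [hEs _ _ hb', hEi a])
    have r3 := card_erase_add_one (s := nb E a \ nb E b) (a := b) (by simp [hb', hEi b])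
    have r4 := sd a b
    have r5 := sd b a
    rw [inter_comm] at r5
    rw [hEd _ _ hb'] at r1
    omega
  have s2 : ∀ a c, F a c → 2 * v + 2 ≤ (Ds G a c).card + 2 * (nb E a ∩ nb E c).card := by
    intro a c h
    have r1 := sep (G := G) hE hEs hEi h.1
    rw [erase_eq_of_notMem (by simpa using fun e => absurd (hEs _ _ e) h.2),
      erase_eq_of_notMem (by simpa using fun e => absurd e h.2)] at r1
    have r4 := sd a c
    have r5 := sd c a
    rw [inter_comm] at r5
    omega
  have b1 : Fintype.card X - 1 ≤ v * (d - 1) := by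
    have : (univ : Finset X).erase a0 ⊆ (nb E a0).biUnion fun b => (Ds G a0 b).erase a0 := by
      intro ω hω
      have hω' := (mem_erase.1 hω).1
      simp only [mem_biUnion, mem_nb, mem_erase, mem_Ds]
      by_contra h
      push Not at h
      replace h := fun b hb => h b hb hω'
      have key : ∀ x y, E x y → Sim G ω a0 x → Sim G ω a0 y := by
        rintro x y hxy ⟨g, h1, rfl⟩
        have := (h (g⁻¹ • y) (by simpa using hE g⁻¹ _ _ hxy)).smul g
        rw [h1, smul_inv_smul] at this
        exact Sim.trans ⟨g, h1, rfl⟩ this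
      have all := fun y => (hcon {y | Sim G ω a0 y}
        (fun x y hxy => ⟨key x y hxy, key y x (hEs _ _ hxy)⟩) a0 y).1 (Sim.refl _ _)
      have e : ω = a0 := (Sim.symm (all ω)).eq_left
      exact hω' e
    have r1 := card_le_card this
    rw [card_erase_of_mem (mem_univ _), card_univ] at r1
    refine r1.trans (card_biUnion_le.trans ?_)
    rw [← hv a0, ← smul_eq_mul]
    refine sum_le_card_nsmul _ _ _ fun b hb => ?_
    have hb' : E a0 b := mem_nb.1 hb
    rw [card_erase_of_mem (mem_Ds.2 fun h => hEi a0 (by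
      have := h.eq_left; subst this; exact hb')), hEd _ _ hb']
  refine ⟨v, ⟨hv1, by omega, b1, ?_⟩, fun a => ?_⟩
  swap
  · set T := (nb F a).filter fun c => (Ds G a c).card ≤ v + 1 with hT
    have r1 : T.card * (v + 1) ≤ 2 * ∑ c ∈ nb F a, (nb E a ∩ nb E c).card := by
      rw [mul_sum, ← smul_eq_mul]
      refine (card_nsmul_le_sum _ _ _ fun c hc => ?_).trans
        (sum_le_sum_of_subset (filter_subset _ _))
      have := s2 a c (mem_nb.1 (mem_filter.1 hc).1)
      have := (mem_filter.1 hc).2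
      omega
    have r2 := s1 a
    have r3 : T.card + 2 ≤ d := by
      by_contra h
      have := Nat.mul_le_mul_left v (show d ≤ T.card + 1 by omega)
      nlinarith
    have r4 : ((univ.erase a).filter fun c => (Ds G a c).card ≤ v + 1) ⊆ nb E a ∪ T := by
      intro c hc
      simp only [mem_filter, mem_erase, mem_union, mem_nb, hT, F] at hc ⊢
      by_cases e : E a c
      · exact Or.inl e
      · exact Or.inr ⟨⟨hc.1.1.symm, e⟩, hc.2⟩
    have r5 := (card_le_card r4).trans (card_union_le _ _)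
    rw [hv] at r5
    omega
  by_cases h3 : ∀ a c, a = c ∨ E a c ∨ ∃ w, E a w ∧ E w c
  swap
  · push Not at h3
    obtain ⟨a, c, h3⟩ := h3
    obtain ⟨y, z, hy, hyz, hz⟩ : ∃ y z, (a = y ∨ E a y ∨ ∃ w, E a w ∧ E w y) ∧ E y z ∧
        ¬ (a = z ∨ E a z ∨ ∃ w, E a w ∧ E w z) := by
      by_contra h
      push Not at h
      have := (hcon {y | a = y ∨ E a y ∨ ∃ w, E a w ∧ E w y} (fun x y hxy =>
        ⟨fun hx => by simpa using h x y hx hxy, fun hy => by simpa using h y x hy (hEs _ _ hxy)⟩)
        a c).1 (Or.inl rfl)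
      rcases this with h1 | h1 | ⟨w, h1, h2⟩
      · exact h3.1 h1
      · exact h3.2.1 h1
      · exact h3.2.2 w h1 h2
    push Not at hz
    obtain ⟨w, hw, hwy⟩ : ∃ w, E a w ∧ E w y := by
      rcases hy with rfl | hy | hy
      · exact absurd hyz hz.2.1
      · exact absurd hyz (hz.2.2 y hy)
      · exact hy
    have b2 : (Ds G a z).card ≤ 3 * d := by
      have := Ds_tri (G := G) a w z
      have := Ds_tri (G := G) w y z
      have := hEd _ _ hw
      have := hEd _ _ hwy
      have := hEd _ _ hyz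
      omega
    have b3 : (v + 1) + (v + 1) ≤ (Ds G a z).card := by
      have c1 : ∀ x, (insert x (nb E x)).card = v + 1 := fun x => by
        rw [card_insert_of_notMem (by simpa using hEi x), hv]
      rw [show v + 1 + (v + 1) = (insert z (nb E z)).card + (insert a (nb E a)).card by
        rw [c1, c1], ← card_union_of_disjoint]
      · refine card_le_card fun ω hω => mem_Ds.2 fun h => ?_
        simp only [mem_union, mem_insert, mem_nb] at hω
        rcases hω with (rfl | hω) | rfl | hω
        · exact hz.1 h.symm.eq_left.symm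
        · exact hz.2.2 ω (hEs _ _ (h.symm.rel hE (hEs _ _ hω))) (hEs _ _ hω)
        · exact hz.1 h.eq_left
        · exact hz.2.2 ω hω (h.rel hE (hEs _ _ hω))
      · rw [disjoint_left]
        intro ω h1 h2
        simp only [mem_insert, mem_nb] at h1 h2
        rcases h1 with rfl | h1 <;> rcases h2 with h2 | h2
        · exact hz.1 h2.symm
        · exact hz.2.1 h2
        · exact hz.2.1 (hEs _ _ (h2 ▸ h1))
        · exact hz.2.2 ω h2 (hEs _ _ h1)
    exact Or.inr (Or.inl (by omega))
  by_cases hc : ∀ x y, x ≠ y → E x y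
  · -- tournament
    have hno : ∀ x y, Γ x y → ¬ Γ y x := by
      rintro x y ⟨g, h1, h2⟩ ⟨k, h4, h5⟩
      apply hn2
      have all : ∀ x y, x ≠ y → Γ x y := fun u w huw => by
        rcases hc u w huw with h | ⟨l, h6, h7⟩
        · exact h
        · exact ⟨l * k⁻¹ * g, by rw [mul_smul, mul_smul, h1, ← h5, inv_smul_smul, h7],
            by rw [mul_smul, mul_smul, h2, ← h4, inv_smul_smul, h6]⟩
      rw [MulAction.is_two_pretransitive_iff]
      intro a b c e h6 h7
      obtain ⟨l, rfl, rfl⟩ := all a b h6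
      obtain ⟨m, rfl, rfl⟩ := all c e h7
      exact ⟨m * l⁻¹, by simp [mul_smul], by simp [mul_smul]⟩
    obtain ⟨o, ho⟩ : ∃ o, ∀ x, (nb Γ x).card = o := ⟨_, fun x => deg_eq hΓ x a0⟩
    set i := (nb (fun u w => Γ w u) a0).card with hi
    have e1 : o + i + 1 = Fintype.card X := by
      rw [← ho a0, hi, ← card_union_of_disjoint, ← card_insert_of_notMem (a := a0), ← card_univ]
      · congr 1
        ext x
        simp only [mem_insert, mem_union, mem_nb, mem_univ, iff_true]
        by_cases h : a0 = x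
        · exact Or.inl h.symm
        · exact Or.inr (hc _ _ h)
      · simpa using hΓi a0
      · rw [disjoint_left]
        intro x h1 h2
        exact hno _ _ (by simpa using h1) (by simpa using h2)
    have e2 := (sum_Ds hΓ hΓi ho a0 hi.symm e1 (i' := o) (by omega)).trans
      (sum_Ds_le a0 (D := d) fun c h => (hEd _ _ (hc _ _ h.symm)).le)
    have o1 : 1 ≤ o := by
      rw [← ho a0]; exact card_pos.2 ⟨b0, by simpa using ⟨1, one_smul _ _, one_smul _ _⟩⟩
    rw [← e1] at e2 ⊢
    rw [Nat.add_sub_cancel] at e2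
    have e3 : (o + i) * (o + i + 4) ≤ (o + i) * (2 * d) := by nlinarith [sq_nonneg ((o : ℤ) - i)]
    have e4 := Nat.le_of_mul_le_mul_left e3 (by omega)
    left
    omega
  · push Not at hc
    obtain ⟨x0, y0, hxy⟩ := hc
    have hv'1 : 1 ≤ v' := by rw [← hv' x0]; exact card_pos.2 ⟨y0, by simpa using hxy⟩
    have e3 : v ≤ v' * (v' - 1) := by
      obtain ⟨x, y, w, h1, h2, h4⟩ : ∃ x y w, E x y ∧ F x w ∧ F w y := by
        by_contra h
        push Not at h
        rcases H1.Basic.equivalence_trivial_or_univ (G := G) (fun x y => ¬ E x y)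
          ⟨hEi, fun h1 h2 => h1 (hEs _ _ h2), fun {x y z} h1 h2 h5 => by
            by_cases e : x = y
            · exact h2 (e ▸ h5)
            by_cases e' : y = z
            · exact h1 (e' ▸ h5)
            exact h x z y h5 ⟨e, h1⟩ ⟨e', h2⟩⟩
          (fun g x y h1 h2 => h1 (by simpa using hE g⁻¹ _ _ h2)) with h1 | h1
        · exact hxy.1 (h1 _ _ hxy.2)
        · exact h1 _ _ hE0
      have k0 : ∃ w, F a0 w ∧ F w b0 := by
        rcases h1 with ⟨g, rfl, rfl⟩ | ⟨g, rfl, rfl⟩
        · exact ⟨g⁻¹ • w, by simpa using hF g⁻¹ _ _ h2, by simpa using hF g⁻¹ _ _ h4⟩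
        · exact ⟨g⁻¹ • w, by simpa using hF g⁻¹ _ _ (hFs _ _ h4),
            by simpa using hF g⁻¹ _ _ (hFs _ _ h2)⟩
      obtain ⟨w0, k1, k2⟩ := k0
      rw [← hv a0]
      refine two_step hFs hv' a0 _ fun c hc => ?_
      have hc' : E a0 c := by simpa using hc
      refine ⟨fun e => hEi a0 (e ▸ hc'), ?_⟩
      rcases hc' with ⟨g, h5, h6⟩ | ⟨g, h5, h6⟩
      · exact ⟨g • w0, by simpa [h5] using hF g _ _ k1, by simpa [h6] using hF g _ _ k2⟩
      · exact ⟨g • w0, by simpa [h6] using hF g _ _ (hFs _ _ k2),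
          by simpa [h5] using hF g _ _ (hFs _ _ k1)⟩
    have e4 : v' * (2 * v + 2) ≤ v' * (2 * d) + 2 * ∑ c ∈ nb F a0, (nb E a0 ∩ nb E c).card := by
      rw [← hv' a0, mul_sum, ← smul_eq_mul (nb F a0).card, ← smul_eq_mul (nb F a0).card,
        ← sum_const, ← sum_const, ← sum_add_distrib]
      refine sum_le_sum fun c hc => ?_
      have hc' : F a0 c := mem_nb.1 hc
      have := s2 a0 c hc'
      rcases h3 a0 c with h1 | h1 | ⟨w, h1, h2⟩
      · exact absurd h1 hc'.1
      · exact absurd h1 hc'.2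
      · have := Ds_tri (G := G) a0 w c
        have := hEd _ _ h1
        have := hEd _ _ h2
        omega
    have e5 := s1 a0
    have e6 : Fintype.card X - 1 - v = v' := by omega
    rw [e6]
    exact Or.inr (Or.inr ⟨by omega, e3, by nlinarith⟩)

end Cfsg.Agent.H2.Ps
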