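import Cfsg.Agent.H2.Ps1
import Cfsg.Agent.H2.Ps2

/-!
Counting sets that do not separate two points.
-/

set_option autoImplicit false

namespace Cfsg.Agent.H2.Ps

open Finset MulAction SubMulAction Cfsg.Agent.H2.Ln

/-- Consequences for a primitive group that is not doubly transitive. -/
def Uni (N c : ℕ) : Prop :=
  (∀ d, 3 * (d - 1) ^ 2 < 2 * N → RB N (fun j => (N - 1) * (N - d).choose j) c) ∧
  ∃ d v, Feas N d v ∧ (∀ d' ≤ d, RB N (fun j => (N - 1) * (N - d').choose j) c) ∧
    RB N (fun j => min (N - 1) (v + d - 2) * (N - d).choose j +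
      (N - 1 - (v + d - 2)) * (N - max d (v + 2)).choose j) c

/-- Consequences for a doubly transitive group with imprimitive point stabiliser. -/
def Imp (M c : ℕ) : Prop :=
  ∃ (k m : ℕ) (u : ℕ → ℕ), 2 ≤ k ∧ 2 ≤ m ∧ m * k + 1 = M ∧ (∀ j, u j ≤ (M - 2).choose j) ∧
    (∀ j, (j + 1) * u (j + 1) ≤
      u j * (M - j - ee k j) + (k - 1).choose j * ((M - 2 - j) - (M - j - ee k j))) ∧
    RB M (fun j => (M - 1) * u j) c

section
variable {G X : Type} [Group G] [MulAction G X] [Fintype X] [DecidableEq X]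

theorem uu_le (T : Finset X) {a b : X} (h : ∀ S, Sm G S a b → Disjoint S T) (j : ℕ) :
    uu G j a b ≤ (Fintype.card X - T.card).choose j := by
  classical
  rw [← card_compl, ← card_powersetCard]
  refine card_le_card fun S hS => ?_
  obtain ⟨h1, h2⟩ := mem_filter.1 hS
  exact mem_powersetCard.2 ⟨(le_compl_iff_disjoint_right.2 (h S h2) :), (mem_powersetCard.1 h1).2⟩

theorem uu_Ds (a b : X) {d : ℕ} (hd : d ≤ (Ds G a b).card) (j : ℕ) :
    uu G j a b ≤ (Fintype.card X - d).choose j :=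
  (uu_le (Ds G a b) (fun _ ⟨g, h1, h2⟩ => disjoint_left.2 fun x hx h =>
    mem_Ds.1 h ⟨g, h1 x hx, h2⟩) j).trans (Nat.choose_le_choose _ (by omega))

theorem rb_d (hμ : MinDeg G X 1) {d : ℕ} (hd : ∀ a b : X, a ≠ b → d ≤ (Ds G a b).card) :
    RB (Fintype.card X) (fun j => (Fintype.card X - 1) * (Fintype.card X - d).choose j)
      (Nat.card G) := rb hμ _ fun j a => by
  rw [← card_univ (α := X), ← card_erase_of_mem (mem_univ a), ← smul_eq_mul, card_univ]
  exact sum_le_card_nsmul _ _ _ fun b hb => uu_Ds a b (hd a b (mem_erase.1 hb).1.symm) j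

theorem uni (hμ : MinDeg G X 1) [IsPreprimitive G X] (hn2 : ¬ IsMultiplyPretransitive G X 2) :
    Uni (Fintype.card X) (Nat.card G) := by
  classical
  refine ⟨fun d hd => rb_d hμ fun a b hab => ?_, ?_⟩
  · have h3 := two_n_le hn2 hab
    by_contra h4
    have h5 := Nat.pow_le_pow_left (show (Ds G a b).card ≤ d - 1 by omega) 2
    omega
  have ex : ∃ d, ∃ a b : X, a ≠ b ∧ (Ds G a b).card = d := by
    by_contra h
    refine hn2 (is_two_pretransitive_iff.2 fun {a b c e} hab _ => ?_)
    exact absurd ⟨_, a, b, hab, rfl⟩ h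
  obtain ⟨a0, b0, hab, h1⟩ := Nat.find_spec ex
  have h2 : ∀ a b : X, a ≠ b → (Ds G a0 b0).card ≤ (Ds G a b).card := fun a b h =>
    h1 ▸ Nat.find_min' ex ⟨a, b, h, rfl⟩
  obtain ⟨v, h3, h4⟩ := struct hn2 hab
  refine ⟨_, v, h3, fun d' hd => rb_d hμ fun a b h => hd.trans (h2 a b h), rb hμ _ fun j a => ?_⟩
  have h5 := h4 a
  generalize (Ds G a0 b0).card = d at *
  rw [← sum_filter_add_sum_filter_not _ fun c => (Ds G a c).card ≤ v + 1]
  have h6 := card_filter_add_card_filter_not (s := univ.erase a) fun c => (Ds G a c).card ≤ v + 1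
  rw [card_erase_of_mem (mem_univ _), card_univ] at h6
  have h7 := sum_le_card_nsmul ((univ.erase a).filter fun c => (Ds G a c).card ≤ v + 1)
    (fun b => uu G j a b) _ fun b hb =>
      uu_Ds a b (h2 a b (mem_erase.1 (mem_filter.1 hb).1).1.symm) j
  have h8 := sum_le_card_nsmul ((univ.erase a).filter fun c => ¬ (Ds G a c).card ≤ v + 1)
    (fun b => uu G j a b) _ fun b hb => uu_Ds a b (d := max d (v + 2))
      (max_le (h2 a b (mem_erase.1 (mem_filter.1 hb).1).1.symm)
        (by have := (mem_filter.1 hb).2; omega)) j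
  have h9 := Nat.choose_le_choose j
    (show Fintype.card X - max d (v + 2) ≤ Fintype.card X - d by omega)
  have h10 : ((univ.erase a).filter fun c => (Ds G a c).card ≤ v + 1).card + 2 ≤ v + d := by
    convert h5
  rw [smul_eq_mul] at h7 h8
  refine (Nat.add_le_add h7 h8).trans ?_
  generalize ((univ.erase a).filter fun c => (Ds G a c).card ≤ v + 1).card = x at *
  generalize ((univ.erase a).filter fun c => ¬ (Ds G a c).card ≤ v + 1).card = y at *
  obtain ⟨e, he⟩ := Nat.exists_eq_add_of_le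
    (show x ≤ min (Fintype.card X - 1) (v + d - 2) by omega)
  have h11 : y = Fintype.card X - 1 - (v + d - 2) + e := by omega
  rw [he, h11]
  nlinarith [Nat.mul_le_mul_left e h9]

end

theorem imp_rec {L Y : Type} [Group L] [MulAction L Y] [Fintype Y] [DecidableEq Y]
    (h2 : IsMultiplyPretransitive L Y 2) (α : Y)
    (r : ofStabilizer L α → ofStabilizer L α → Prop) (hr : Equivalence r)
    (hinv : ∀ (g : stabilizer L α) x y, r x y → r (g • x) (g • y)) {k : ℕ}
    (hk : ∀ x, {y | r x y}.ncard = k) (hk2 : 2 ≤ k) {a b : Y} (hab : a ≠ b) (j : ℕ) :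
    (j + 1) * uu L (j + 1) a b ≤ uu L j a b * (Fintype.card Y - j - ee k j) +
      (k - 1).choose j * ((Fintype.card Y - 2 - j) - (Fintype.card Y - j - ee k j)) := by
  classical
  have ht : IsPretransitive L Y := isPretransitive_of_is_two_pretransitive
  let R : Y → Y → Y → Prop := fun a x y => ∃ g : L, g • α = a ∧
    ∃ x' y' : ofStabilizer L α, g • (x' : Y) = x ∧ g • (y' : Y) = y ∧ r x' y'
  have R1 : ∀ (h : L) a x y, R a x y → R (h • a) (h • x) (h • y) := by
    rintro h _ _ _ ⟨g, rfl, x', y', rfl, rfl, h1⟩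
    exact ⟨h * g, mul_smul _ _ _, x', y', mul_smul _ _ _, mul_smul _ _ _, h1⟩
  have R2 : ∀ (g : L) (x' y' : ofStabilizer L α), R (g • α) (g • (x' : Y)) (g • (y' : Y)) →
      r x' y' := by
    rintro g x' y' ⟨h, h1, x, y, h2, h3, h4⟩
    have h5 := hinv ⟨g⁻¹ * h, by rw [mem_stabilizer_iff, mul_smul, h1, inv_smul_smul]⟩ _ _ h4
    convert h5 using 1 <;> apply Subtype.ext
    · change _ = (g⁻¹ * h) • (x : Y)
      rw [mul_smul, h2, inv_smul_smul]
    · change _ = (g⁻¹ * h) • (y : Y)
      rw [mul_smul, h3, inv_smul_smul]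
  have R3 : ∀ a x y, R a x y → x ≠ a := by
    rintro _ _ _ ⟨g, rfl, x', y', rfl, rfl, -⟩ h
    exact x'.2 (MulAction.injective g h)
  have R4 : ∀ a x y, R a x y → R a y x := by
    rintro _ _ _ ⟨g, rfl, x', y', rfl, rfl, h⟩
    exact ⟨g, rfl, y', x', rfl, rfl, hr.symm h⟩
  have lift : ∀ (g : L) z, z ≠ g • α → ∃ z' : ofStabilizer L α, g • (z' : Y) = z :=
    fun g z hz => ⟨⟨g⁻¹ • z, fun e => hz (inv_smul_eq_iff.1 e)⟩, smul_inv_smul _ _⟩
  have R5 : ∀ a x y z, R a x y → R a y z → R a x z := by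
    rintro _ _ _ z ⟨g, rfl, x', y', rfl, rfl, h⟩ h'
    obtain ⟨z', rfl⟩ := lift g z (R3 _ _ _ (R4 _ _ _ h'))
    exact ⟨g, rfl, x', z', rfl, rfl, hr.trans h (R2 g _ _ h')⟩
  have R6 : ∀ a x, x ≠ a → (nb (R a) x).card = k ∧ R a x x := by
    intro a x hx
    obtain ⟨g, rfl⟩ := exists_smul_eq L α a
    obtain ⟨x', rfl⟩ := lift g x hx
    refine ⟨?_, g, rfl, x', x', rfl, rfl, hr.refl _⟩
    rw [← hk x', ← Set.ncard_image_of_injective _
      ((MulAction.injective g).comp Subtype.val_injective), ← Set.ncard_coe_finset]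
    congr 1
    ext y
    simp only [Finset.mem_coe, mem_nb]
    constructor
    · intro h
      obtain ⟨y', rfl⟩ := lift g y (R3 _ _ _ (R4 _ _ _ h))
      exact ⟨y', R2 g _ _ h, rfl⟩
    · rintro ⟨y', h, rfl⟩
      exact ⟨g, rfl, x', y', rfl, rfl, h⟩
  have R7 : ∀ x y, x ≠ y → (nb (fun u a => R a x u) y).card ≤ k - 1 := by
    intro x y hxy
    have e1 : ∀ y', y' ≠ x → (nb (fun u a => R a x u) y).card ≤
        (nb (fun u a => R a x u) y').card := by
      intro y' hy'
      obtain ⟨g, g1, g2⟩ := is_two_pretransitive_iff.1 h2 hxy hy'.symm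
      refine Finset.card_le_card_of_injOn (g • ·) (fun a ha => ?_)
        (MulAction.injective g).injOn
      have ha' : R a x y := (mem_nb (Y := fun u a => R a x u)).1 ha
      have := R1 g _ _ _ ha'
      rw [g1, g2] at this
      exact (mem_nb (Y := fun u a => R a x u)).2 this
    have e2 := Finset.card_mul_le_card_mul (s := Finset.univ.erase x) (t := Finset.univ.erase x)
      (m := (nb (fun u a => R a x u) y).card) (n := k - 1) (fun u a => R a x u)
      (fun u hu => (e1 u (Finset.mem_erase.1 hu).1).trans (Finset.card_le_card fun a ha => by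
        have := mem_nb.1 ha
        simpa [this] using (R3 _ _ _ this).symm))
      fun a ha => by
        obtain ⟨h3, h4⟩ := R6 a x (Finset.mem_erase.1 ha).1.symm
        rw [← h3, ← Finset.card_erase_of_mem (mem_nb.2 h4)]
        exact Finset.card_le_card fun u hu => by simpa using hu
    refine Nat.le_of_mul_le_mul_left e2 (Finset.card_pos.2 ⟨y, by simpa using hxy.symm⟩)
  let Z : Finset Y := nb (fun u x => R x a u) b
  have mZ : ∀ x, x ∈ Z ↔ R x a b := fun x => mem_nb (Y := fun u x => R x a u)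
  have hZ : Z.card ≤ k - 1 := R7 a b hab
  have key : ∀ S : Finset Y, S.card = j →
      ∑ x ∈ Sᶜ, (if Sm L (insert x S) a b then 1 else 0) ≤ (if Sm L S a b then 1 else 0) *
        (Fintype.card Y - j - ee k j) + (if S ⊆ Z then 1 else 0) *
          ((Fintype.card Y - 2 - j) - (Fintype.card Y - j - ee k j)) := by
    intro S hS
    rw [← card_filter]
    by_cases h0 : Sm L S a b
    swap
    · rw [filter_eq_empty_iff.2 fun x _ ⟨g, h3, h4⟩ =>
        h0 ⟨g, fun z hz => h3 z (mem_insert_of_mem hz), h4⟩]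
      exact Nat.zero_le _
    have nab : ∀ T : Finset Y, Sm L T a b → a ∉ T ∧ b ∉ T := fun T ⟨g, h3, h4⟩ =>
      ⟨fun h => hab ((h3 a h).symm.trans h4),
        fun h => hab (MulAction.injective g (h4.trans (h3 b h).symm))⟩
    have cnt : ∀ K : Finset Y, a ∉ K → b ∉ K →
        (∀ T, S ⊆ T → Sm L T a b → ∀ x ∈ K, x ∉ T) →
        (Sᶜ.filter fun x => Sm L (insert x S) a b).card + (K.card + 2) + j ≤ Fintype.card Y := by
      intro K ha hb hK
      have c1 : (insert a (insert b K)).card = K.card + 2 := by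
        rw [card_insert_of_notMem (by simp [hab, ha]), card_insert_of_notMem hb]
      have c2 : ∀ T, S ⊆ T → Sm L T a b → ∀ x ∈ insert a (insert b K), x ∉ T := by
        intro T h3 h4 x hx
        simp only [mem_insert] at hx
        rcases hx with rfl | rfl | hx
        · exact (nab T h4).1
        · exact (nab T h4).2
        · exact hK T h3 h4 x hx
      rw [← c1, ← card_union_of_disjoint, ← hS, ← card_union_of_disjoint]
      · exact card_le_univ _
      · rw [disjoint_left]
        intro x hx hx'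
        rcases mem_union.1 hx with h | h
        · exact mem_compl.1 (mem_filter.1 h).1 hx'
        · exact c2 S subset_rfl h0 x h hx'
      · rw [disjoint_left]
        intro x hx hx'
        exact c2 _ (subset_insert _ _) (mem_filter.1 hx).2 x hx' (mem_insert_self _ _)
    rw [if_pos h0, one_mul]
    split_ifs with h1
    · have := cnt ∅ (by simp) (by simp) (by simp)
      rw [card_empty] at this
      omega
    let B : Y → Finset Y := fun x => (nb (R x) a).erase a ∪ (nb (R x) b).erase b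
    have mB : ∀ x ω, ω ∈ B x ↔ (ω ≠ a ∧ R x a ω) ∨ (ω ≠ b ∧ R x b ω) := fun x ω => by simp [B]
    have cB : ∀ x ∈ S \ Z, (B x).card = 2 * (k - 1) := by
      intro x hx
      obtain ⟨h3, h4⟩ := mem_sdiff.1 hx
      obtain ⟨p1, p2⟩ := R6 x a fun e => (nab S h0).1 (e ▸ h3)
      obtain ⟨p3, p4⟩ := R6 x b fun e => (nab S h0).2 (e ▸ h3)
      rw [card_union_of_disjoint, card_erase_of_mem (mem_nb.2 p2),
        card_erase_of_mem (mem_nb.2 p4), p1, p3, two_mul]
      rw [disjoint_left]
      intro ω q1 q2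
      exact h4 ((mZ x).2 (R5 _ _ _ _ (mem_nb.1 (mem_erase.1 q1).2)
        (R4 _ _ _ (mem_nb.1 (mem_erase.1 q2).2))))
    set K := (S \ Z).biUnion B with hK
    have mK : ∀ ω ∈ K, ∃ x ∈ S, ¬ R x a b ∧ ((ω ≠ a ∧ R x a ω) ∨ (ω ≠ b ∧ R x b ω)) := by
      intro ω hω
      obtain ⟨x, q1, q2⟩ := mem_biUnion.1 hω
      exact ⟨x, (mem_sdiff.1 q1).1, fun h => (mem_sdiff.1 q1).2 ((mZ x).2 h), (mB _ _).1 q2⟩
    have ka : a ∉ K := fun h => by
      obtain ⟨x, -, q2, q3 | q3⟩ := mK a h
      · exact q3.1 rfl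
      · exact q2 (R4 _ _ _ q3.2)
    have kb : b ∉ K := fun h => by
      obtain ⟨x, -, q2, q3 | q3⟩ := mK b h
      · exact q2 q3.2
      · exact q3.1 rfl
    have k1 := cnt K ka kb (by
      rintro T h3 ⟨g, h4, h5⟩ ω hω h6
      obtain ⟨x, q1, q2, q3 | q3⟩ := mK ω hω
      · have := R1 g _ _ _ q3.2
        rw [h4 x (h3 q1), h4 ω h6, h5] at this
        exact q2 (R5 _ _ _ _ q3.2 (R4 _ _ _ this))
      · have := R1 g⁻¹ _ _ _ q3.2
        rw [inv_smul_eq_iff.2 (h4 x (h3 q1)).symm, inv_smul_eq_iff.2 (h4 ω h6).symm,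
          inv_smul_eq_iff.2 h5.symm] at this
        exact q2 (R5 _ _ _ _ this (R4 _ _ _ q3.2)))
    have k2 : 2 * (k - 1) ≤ K.card := by
      obtain ⟨x, q1, q2⟩ := not_subset.1 h1
      rw [← cB x (mem_sdiff.2 ⟨q1, q2⟩)]
      exact card_le_card (subset_biUnion_of_mem B (mem_sdiff.2 ⟨q1, q2⟩))
    have k3 := Finset.card_mul_le_card_mul (s := S \ Z) (t := K) (m := 2 * (k - 1))
      (n := 2 * (k - 1)) (fun x ω => ω ∈ B x)
      (fun x hx => by
        rw [← cB x hx]
        exact card_le_card fun ω hω => mem_filter.2 ⟨mem_biUnion.2 ⟨x, hx, hω⟩, hω⟩)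
      fun ω hω => by
        have q1 := R7 a ω fun e => ka (e ▸ hω)
        have q2 := R7 b ω fun e => kb (e ▸ hω)
        refine le_trans (card_le_card fun x hx => ?_) ((card_union_le _ _).trans
          ((Nat.add_le_add q1 q2).trans (two_mul _).ge))
        rcases (mB _ _).1 (mem_filter.1 hx).2 with h | h
        · exact mem_union_left _ ((mem_nb (Y := fun u x => R x a u)).2 h.2)
        · exact mem_union_right _ ((mem_nb (Y := fun u x => R x b u)).2 h.2)
    have k4 := Nat.le_of_mul_le_mul_right k3 (by omega)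
    have k5 := le_card_sdiff Z S
    unfold ee
    omega
  have e1 := dc (fun T : Finset Y => if Sm L T a b then 1 else 0) j
  rw [← card_filter, smul_eq_mul] at e1
  refine le_trans (le_of_eq e1.symm) ((sum_le_sum fun S hS =>
    key S (mem_powersetCard.1 hS).2).trans ?_)
  rw [sum_add_distrib, ← sum_mul, ← sum_mul, ← card_filter, ← card_filter]
  refine Nat.add_le_add_left (Nat.mul_le_mul_right _ ?_) _
  refine le_trans (card_le_card (t := powersetCard j Z) fun S hS => ?_) ?_
  · exact mem_powersetCard.2 ⟨(mem_filter.1 hS).2, (mem_powersetCard.1 (mem_filter.1 hS).1).2⟩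
  · rw [card_powersetCard]
    exact Nat.choose_le_choose _ hZ

theorem imp {L Y : Type} [Group L] [MulAction L Y] [Fintype Y] [DecidableEq Y]
    (hμ : MinDeg L Y 1) (h2 : IsMultiplyPretransitive L Y 2) (α : Y)
    (hp : ¬ IsPreprimitive (stabilizer L α) (ofStabilizer L α)) :
    Imp (Fintype.card Y) (Nat.card L) := by
  have ht : IsPretransitive L Y := isPretransitive_of_is_two_pretransitive
  have b1 := is_one_pretransitive_iff.1
    ((ofStabilizer.isMultiplyPretransitive (a := α)).1 h2)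
  obtain ⟨r, k, m, hr, hinv, hk, hk2, hm2, hm⟩ := exists_rel b1 hp
  have a3 := nat_card_ofStabilizer_add_one_eq L α
  rw [Nat.card_eq_fintype_card (α := Y)] at a3
  let P : Finset (Y × Y) := univ.filter fun q => q.1 ≠ q.2
  have le : ∀ j (a b : Y), a ≠ b → uu L j a b ≤ P.sup fun q => uu L j q.1 q.2 := fun j a b h =>
    le_sup (f := fun q : Y × Y => uu L j q.1 q.2) (b := (a, b)) (by simpa [P] using h)
  refine ⟨k, m, fun j => P.sup fun q => uu L j q.1 q.2, hk2, hm2, by omega, fun j => ?_,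
    fun j => ?_, rb hμ _ fun j a => ?_⟩
  · refine Finset.sup_le fun q hq => ?_
    have h3 : q.1 ≠ q.2 := (mem_filter.1 hq).2
    rw [← card_pair h3]
    refine uu_le _ (fun S ⟨g, h4, h5⟩ => disjoint_left.2 fun x hx h => ?_) j
    rcases mem_insert.1 h with rfl | h
    · exact h3 ((h4 _ hx).symm.trans h5)
    · rw [mem_singleton.1 h] at hx
      exact h3 (MulAction.injective g (h5.trans (h4 _ hx).symm))
  · rw [mul_comm, ← Nat.le_div_iff_mul_le (by omega)]
    refine Finset.sup_le fun q hq => ?_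
    have h3 : q.1 ≠ q.2 := (mem_filter.1 hq).2
    rw [Nat.le_div_iff_mul_le (by omega), mul_comm]
    exact (imp_rec h2 α r hr hinv hk hk2 h3 j).trans
      (Nat.add_le_add_right (Nat.mul_le_mul_right _ (le j _ _ h3)) _)
  · rw [← card_univ (α := Y), ← card_erase_of_mem (mem_univ a), ← smul_eq_mul]
    exact sum_le_card_nsmul _ _ _ fun b hb => le j a b (mem_erase.1 hb).1.symm

end Cfsg.Agent.H2.Ps
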